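import Cfsg.Agent.Chev.Springer.Data

/-! Root data of the remaining types. -/

set_option autoImplicit false

open Cfsg.Lie

namespace Cfsg.Lib.Chev.Springer

theorem G2_tab : okTab chevG2 G2.cert G2.htTab = true := by decide +kernel
theorem B2_tab : okTab chevB2 B2.cert B2.htTab = true := by decide +kernel
theorem D4_tab : okTab chevD4 D4.cert D4.htTab = true := by decide +kernel
theorem E6_tab : okTab chevE6 E6.cert E6.htTab = true := by decide +kernel
theorem E7_tab : okTab chevE7 E7.cert E7.htTab = true := by decide +kernel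

theorem G2_dat : Dat chevG2 G2.cert G2.htTab :=
  dat_of_okTab G2.struct okNeg_G2 G2.ht Cfsg.Lib.Steinberg.G2_lin G2_tab

theorem B2_dat : Dat chevB2 B2.cert B2.htTab :=
  dat_of_okTab B2.struct okNeg_B2 B2.ht Cfsg.Lib.Steinberg.B2_lin B2_tab

theorem D4_dat : Dat chevD4 D4.cert D4.htTab :=
  dat_of_okTab D4.struct okNeg_D4 D4.ht Cfsg.Lib.Steinberg.D4_lin D4_tab

theorem E6_dat : Dat chevE6 E6.cert E6.htTab :=
  dat_of_okTab E6.struct okNeg_E6 E6.ht Cfsg.Lib.Steinberg.E6_lin E6_tab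

theorem E7_dat : Dat chevE7 E7.cert E7.htTab :=
  dat_of_okTab E7.struct okNeg_E7 E7.ht Cfsg.Lib.Steinberg.E7_lin E7_tab

theorem G2_natCard_WG : Nat.card ↥G2_dat.S.WG = [2, 6].prod := by
  exact_mod_cast (G2_dat.S.natCard_WG G2.poincare).trans G2.weylCard

theorem B2_natCard_WG : Nat.card ↥B2_dat.S.WG = [2, 4].prod := by
  exact_mod_cast (B2_dat.S.natCard_WG B2.poincare).trans B2.weylCard

theorem D4_natCard_WG : Nat.card ↥D4_dat.S.WG = [2, 4, 4, 6].prod := by
  exact_mod_cast (D4_dat.S.natCard_WG D4.poincare).trans D4.weylCard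

theorem E6_natCard_WG : Nat.card ↥E6_dat.S.WG = [2, 5, 6, 8, 9, 12].prod := by
  exact_mod_cast (E6_dat.S.natCard_WG E6.poincare).trans E6.weylCard

theorem E7_natCard_WG : Nat.card ↥E7_dat.S.WG = [2, 6, 8, 10, 12, 14, 18].prod := by
  exact_mod_cast (E7_dat.S.natCard_WG E7.poincare).trans E7.weylCard

end Cfsg.Lib.Chev.Springer
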