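import Cfsg.Agent.Chev.Springer.Main
import Cfsg.Agent.Chev.Types
import Cfsg.Agent.Chev.St.CenterData
import Cfsg.Agent.Chev.St.Center
import Mathlib.FieldTheory.Finite.Extension

/-! The root data of `F₄` and `E₈` for the cyclic tori, and the passage to a field extension. -/

set_option autoImplicit false

open Cfsg.Lie

namespace Cfsg.Lib.Chev.Springer

open Polynomial

/-- The Cartan numbers are linear in the coefficient table, whose unit vectors are the fundamental roots. -/
noncomputable def okTab (D : ChevalleyDatum) (C : Cert) (T : List (List ℤ)) : Bool :=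
  kall (fun r =>
    kall (fun i => decide (D.cartan i r =
      ((List.range D.rank).map fun j => htAt T r j * D.cartan i (D.simple j)).sum)) (krange 0 D.rank) &&
    kall (fun j => !(kall (fun k => decide (htAt T r k = if j = k then 1 else 0)) (krange 0 D.rank)) ||
      Nat.beq r (C.sr j)) (krange 0 D.rank)) (krange 0 D.nroots)

theorem dat_of_okTab {D : ChevalleyDatum} {C : Cert} {T : List (List ℤ)} (S : Struct D C) (hN : okNeg D = true)
    (hT : okHt D T = true) (hl : Cfsg.Lib.Steinberg.okLin D C T = true) (h : okTab D C T = true) : Dat D C T := by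
  refine ⟨S, hN, hT, hl, fun r hr i hi => ?_, fun r hr j hj hk => ?_⟩
  · have h1 := kall_krange (show kall _ (krange 0 D.nroots) = true from h) r hr
    rw [Bool.and_eq_true] at h1
    exact of_decide_eq_true (kall_krange h1.1 i hi)
  · have h1 := kall_krange (show kall _ (krange 0 D.nroots) = true from h) r hr
    rw [Bool.and_eq_true] at h1
    have h2 := kall_krange h1.2 j hj
    rw [Bool.or_eq_true] at h2
    rcases h2 with h2 | h2
    · rw [Bool.not_eq_true', ← Bool.not_eq_true, kall_iff] at h2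
      refine absurd (fun k hk' => decide_eq_true (hk k ?_)) h2
      rw [krange_eq, List.mem_range'_1] at hk'
      omega
    · exact Nat.eq_of_beq_eq_true h2

theorem F4_tab : okTab chevF4 F4.cert F4.htTab = true := by decide +kernel

theorem E8_tab : okTab chevE8 E8.cert E8.htTab = true := by decide +kernel

theorem F4_dat : Dat chevF4 F4.cert F4.htTab :=
  dat_of_okTab F4.struct okNeg_F4 F4.ht Cfsg.Lib.Steinberg.F4_lin F4_tab

theorem E8_dat : Dat chevE8 E8.cert E8.htTab :=
  dat_of_okTab E8.struct okNeg_E8 E8.ht Cfsg.Lib.Steinberg.E8_lin E8_tab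

variable {D : ChevalleyDatum} {C : Cert} {T : List (List ℤ)}

theorem exists_torus' {F : Type*} [Field F] [Fintype F] (X : Dat D C T)
    {k : ℕ} {v w : List ℤ} {B : List (List ℤ)} (hker : St.okTorus D 1 k v w B = true)
    {e : ℕ} (he : 0 < e) (hn : Nat.totient e = D.rank) (hrank : 0 < D.rank)
    {N : ℕ} (hNev : (cyclotomic e ℤ).eval (Fintype.card F : ℤ) = N) (hN0 : N ≠ 0)
    (hbad : ∀ ℓ : ℕ, ℓ.Prime → ℓ ∣ N → ¬ ℓ ∣ e ∨ ¬ ℓ ^ 2 ∣ N)
    {r : ℕ} (hr : r.Prime) (hrN : r ∣ N) (hre : ¬ r ∣ e) (hrW : ¬ r ∣ Nat.card ↥X.S.WG)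
    (hrG : r ∣ Nat.card ↥(D.group F)) :
    ∃ H : Subgroup ↥(D.group F), IsCyclic ↥H ∧ Nat.card ↥H = N ∧
      Subgroup.centralizer (H : Set ↥(D.group F)) = H := by
  classical
  obtain ⟨p, hc⟩ := CharP.exists F
  have : Fact p.Prime := ⟨CharP.char_is_prime F p⟩
  have : Fact r.Prime := ⟨hr⟩
  have : NeZero e := ⟨he.ne'⟩
  rw [← Nat.card_eq_fintype_card] at hNev
  let K := FiniteField.Extension F p e
  let σ : K →+* K := (FiniteField.Extension.frob F p e).toRingEquiv.toRingHom
  have hσ : ∀ x, σ x = x ^ Nat.card F := fun x => FiniteField.Extension.frob_apply F p e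
  have hfix : ∀ x, σ x = x → x ∈ Set.range (algebraMap F K) := by
    intro x hx
    refine (IsGalois.mem_range_algebraMap_iff_fixed x).2 fun f => ?_
    obtain ⟨i, -, rfl⟩ := FiniteField.Extension.exists_frob_pow_eq F p e f
    induction i with
    | zero => rfl
    | succ i ih => rw [pow_succ, AlgEquiv.mul_apply]; rw [show (FiniteField.Extension.frob F p e) x = x from hx, ih]
  exact exists_torus (K := K) X (St.torus_ker_trivial X.S.ok hker) σ hσ hfix he hn hrank
    (FiniteField.natCard_extension F p e) hNev hN0 hbad hrN hre hrW hrG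

/-- A prime dividing a product of numbers at most `b` is at most `b`. -/
theorem not_dvd_prod {r : ℕ} (hr : r.Prime) {ds : List ℕ} {b : ℕ} (hb : ∀ d ∈ ds, 0 < d ∧ d ≤ b) (hbr : b < r) :
    ¬ r ∣ ds.prod := by
  intro h
  obtain ⟨d, hd, hrd⟩ := (Prime.dvd_prod_iff hr.prime).1 h
  have := Nat.le_of_dvd (hb d hd).1 hrd
  have := (hb d hd).2
  omega

/-- The torus of cyclotomic order belonging to the largest degree. -/
theorem exists_torus_deg {F : Type*} [Field F] [Fintype F] (X : Dat D C T)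
    {k : ℕ} {v w : List ℤ} {B : List (List ℤ)} (hker : St.okTorus D 1 k v w B = true)
    {Ls : List Lev} {ds : List ℕ} (hP : okPoincare C Ls ds = true)
    (hds : ∀ x ∈ ds, 0 < x) {b : ℕ} (hW : (Nat.card ↥X.S.WG : ℕ) = ds.prod) (hb : ∀ x ∈ ds, x ≤ b)
    (hH : 1 * Nat.card ↥(D.diagonalSubgroup F) = (Fintype.card F - 1) ^ D.rank)
    {e : ℕ} (he : e ∈ ds) (hn : Nat.totient e = D.rank) (hrank : 0 < D.rank)
    (hbe : ∀ r : ℕ, r.Prime → r % e = 1 → b < r)
    {N : ℕ} (hNev : (cyclotomic e ℤ).eval (Fintype.card F : ℤ) = N) (hN0 : N ≠ 0)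
    (hbad : ∀ ℓ : ℕ, ℓ.Prime → ℓ ∣ N → ¬ ℓ ∣ e ∨ ¬ ℓ ^ 2 ∣ N)
    {r : ℕ} (hr : r.Prime) (hrN : r ∣ N) (hre : ¬ r ∣ e) (he2 : 1 < e) :
    ∃ H : Subgroup ↥(D.group F), IsCyclic ↥H ∧ Nat.card ↥H = N ∧
      Subgroup.centralizer (H : Set ↥(D.group F)) = H := by
  have : Fact r.Prime := ⟨hr⟩
  have : NeZero (e : ZMod r) := ⟨fun h => hre ((ZMod.natCast_eq_zero_iff _ _).1 h)⟩
  set q := Fintype.card F with hq
  have hprim : IsPrimitiveRoot (q : ZMod r) e := by
    rw [← isRoot_cyclotomic_iff, IsRoot, ← map_cyclotomic e (Int.castRingHom (ZMod r)), ← Int.cast_natCast q,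
      eval_intCast_map, Int.cast_id, hNev, eq_intCast, Int.cast_natCast]
    exact (ZMod.natCast_eq_zero_iff _ _).2 hrN
  have hq0 : (q : ZMod r) ≠ 0 := fun h => by
    have := hprim.pow_eq_one
    rw [h, zero_pow (hds e he).ne'] at this
    exact zero_ne_one this
  have hmod : r % e = 1 := by
    have h1 : e ∣ r - 1 := by rw [hprim.eq_orderOf]; exact ZMod.orderOf_dvd_card_sub_one hq0
    obtain ⟨c, hc⟩ := h1
    rw [show r = e * c + 1 by have := hr.one_le; omega, Nat.mul_add_mod, Nat.mod_eq_of_lt he2]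
  refine exists_torus' X hker (hds e he) hn hrank hNev hN0 hbad hr hrN hre ?_ ?_
  · rw [hW]
    exact not_dvd_prod hr (fun x hx => ⟨hds x hx, hb x hx⟩) (hbe r hr hmod)
  · have h := X.S.order_formula X.hN hP rfl hH
    rw [one_mul] at h
    rw [h, ← hq]
    refine Dvd.dvd.mul_left (Dvd.dvd.trans ?_ (List.dvd_prod (List.mem_map.2 ⟨e, he, rfl⟩))) _
    rw [← ZMod.natCast_eq_zero_iff, Nat.cast_sub (Nat.one_le_pow _ _ (by rw [hq]; exact Fintype.card_pos)),
      Nat.cast_pow, hprim.pow_eq_one, Nat.cast_one, sub_self]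

theorem F4_natCard_WG : Nat.card ↥F4_dat.S.WG = [2, 6, 8, 12].prod := by
  exact_mod_cast (F4_dat.S.natCard_WG F4.poincare).trans F4.weylCard

theorem E8_natCard_WG : Nat.card ↥E8_dat.S.WG = [2, 8, 12, 14, 18, 20, 24, 30].prod := by
  exact_mod_cast (E8_dat.S.natCard_WG E8.poincare).trans E8.weylCard

end Cfsg.Lib.Chev.Springer
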