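import Cfsg.Agent.Chev.Springer.Main
import Cfsg.Agent.Chev.Springer.Data
import Mathlib.FieldTheory.Finite.Extension

/-! The centralizer and the normalizer of a given element of cyclotomic prime order. -/

set_option autoImplicit false

open Cfsg.Lie

namespace Cfsg.Lib.Chev.Springer

open Matrix Polynomial

variable {D : ChevalleyDatum} {C : Cert} {T : List (List ℤ)}
variable {F K : Type*} [Field F] [Field K] [Algebra F K] [Finite F] [Finite K]

theorem torus_at (X : Dat D C T) (hker : (Ok.tG D K).ker = ⊥) (σ : K →+* K)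
    (hσ : ∀ x, σ x = x ^ Nat.card F) (hfix : ∀ x, σ x = x → x ∈ Set.range (algebraMap F K))
    {e : ℕ} (he : 0 < e) (hn : Nat.totient e = D.rank) (hrank : 0 < D.rank)
    (hdeg : Nat.card K = Nat.card F ^ e)
    {N : ℕ} (hNev : (cyclotomic e ℤ).eval (Nat.card F : ℤ) = N) (hN0 : N ≠ 0)
    (hbad : ∀ ℓ : ℕ, ℓ.Prime → ℓ ∣ N → ¬ ℓ ∣ e ∨ ¬ ℓ ^ 2 ∣ N)
    {r : ℕ} [hr : Fact r.Prime] (hrN : r ∣ N) (hre : ¬ r ∣ e) (hrW : ¬ r ∣ Nat.card ↥X.S.WG)
    (x0 : ↥(D.group F)) (hx0 : orderOf x0 = r) :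
    (IsCyclic ↥(Subgroup.centralizer ({x0} : Set ↥(D.group F))) ∧
      Nat.card ↥(Subgroup.centralizer ({x0} : Set ↥(D.group F))) = N) ∧
    ∀ k : ℕ, (∀ w ∈ X.S.WG, w ^ k = 1) → ∀ (n : ↥(D.group F)) (j : ℕ), n * x0 * n⁻¹ = x0 ^ j →
      x0 ^ (j ^ k) = x0 := by
  classical
  have : Fintype K := Fintype.ofFinite K
  have : NeZero D.rank := ⟨hrank.ne'⟩
  set q := Nat.card F with hqdef
  have hσF : ∀ a, σ (algebraMap F K a) = algebraMap F K a := fun a => by
    have := Fintype.ofFinite F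
    rw [hσ, ← map_pow, hqdef, Nat.card_eq_fintype_card, FiniteField.pow_card]
  have hq0 : 1 ≤ q ^ e := Nat.one_le_pow _ _ Nat.card_pos
  have hNd : N ∣ Nat.card Kˣ := by
    rw [Nat.card_units, hdeg, ← Int.natCast_dvd_natCast, Nat.cast_sub hq0, ← hNev]
    have h := Polynomial.eval_dvd (x := (q : ℤ)) (cyclotomic.dvd_X_pow_sub_one e ℤ)
    simpa using h
  have hQ : r ∣ Fintype.card K - 1 := by
    rw [← Nat.card_eq_fintype_card, ← Nat.card_units]; exact hrN.trans hNd
  have hqprim : IsPrimitiveRoot (q : ZMod r) e := by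
    have : NeZero (e : ZMod r) := ⟨fun h => hre ((ZMod.natCast_eq_zero_iff _ _).1 h)⟩
    rw [← isRoot_cyclotomic_iff, IsRoot, ← map_cyclotomic e (Int.castRingHom (ZMod r)), ← Int.cast_natCast q,
      eval_intCast_map, Int.cast_id, hNev, eq_intCast, Int.cast_natCast]
    exact (ZMod.natCast_eq_zero_iff _ _).2 hrN
  set x := ext D F K (x0 : GL D.Idx F) with hxdef
  have hxG : x ∈ D.group K := ext_mem_group X.S x0.2
  have hdiag_le : D.diagonalSubgroup K ≤ D.group K := le_sup_right.trans X.S.borel_le_group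
  obtain ⟨m, hm, hmW⟩ := card_group_modEq X hQ
  have hm0 : ¬ r ∣ m := fun h => hrW ((ZMod.natCast_eq_zero_iff _ _).1
    (hmW ▸ (ZMod.natCast_eq_zero_iff _ _).2 h))
  have hxr : x ^ r = 1 := by
    rw [hxdef, ← map_pow, ← SubmonoidClass.coe_pow, ← hx0, pow_orderOf_eq_one, OneMemClass.coe_one, map_one]
  have hindex : ((D.diagonalSubgroup K).subgroupOf (D.group K)).index = m := by
    have h := Subgroup.card_mul_index ((D.diagonalSubgroup K).subgroupOf (D.group K))
    rw [Nat.card_congr (Subgroup.subgroupOfEquivOfLe hdiag_le).toEquiv, hm] at h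
    exact Nat.eq_of_mul_eq_mul_left Nat.card_pos h
  obtain ⟨g0, hg0⟩ : ∃ g0 : ↥(D.group K),
      ((g0 : GL D.Idx K))⁻¹ * x * (g0 : GL D.Idx K) ∈ D.diagonalSubgroup K := by
    set Q := (D.diagonalSubgroup K).subgroupOf (D.group K)
    have hP : IsPGroup r ↥(Subgroup.zpowers (⟨x, hxG⟩ : ↥(D.group K))) := by
      intro y
      refine ⟨1, ?_⟩
      obtain ⟨k, hk⟩ := y.2
      refine Subtype.ext ?_
      rw [pow_one, SubmonoidClass.coe_pow, OneMemClass.coe_one, ← hk, ← _root_.zpow_natCast, ← _root_.zpow_mul,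
        mul_comm, _root_.zpow_mul, _root_.zpow_natCast,
        show (⟨x, hxG⟩ : ↥(D.group K)) ^ r = 1 from Subtype.ext hxr, _root_.one_zpow]
    obtain ⟨p, hp⟩ := hP.nonempty_fixed_point_of_prime_not_dvd_card (↥(D.group K) ⧸ Q)
      (by rw [← Subgroup.index_eq_card, hindex]; exact hm0)
    obtain ⟨g, rfl⟩ := QuotientGroup.mk_surjective p
    refine ⟨g, ?_⟩
    have h := hp ⟨⟨x, hxG⟩, Subgroup.mem_zpowers _⟩
    have h2 : ((⟨x, hxG⟩ * g : ↥(D.group K)) : ↥(D.group K) ⧸ Q) = (g : ↥(D.group K) ⧸ Q) := h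
    have h3 := QuotientGroup.eq.1 h2.symm
    rw [Subgroup.mem_subgroupOf] at h3
    simpa [mul_assoc] using h3
  rw [X.S.ok.diagonalSubgroup_eq] at hg0
  obtain ⟨c, hc⟩ := hg0
  set g : GL D.Idx K := (g0 : GL D.Idx K) with hgdef
  have hg : g ∈ D.group K := g0.2
  set t := Ok.tG D K c with htdef
  have hx : x = g * t * g⁻¹ := by rw [hc]; group
  have hinj : Function.Injective (Ok.tG D K) := (MonoidHom.ker_eq_bot_iff _).1 hker
  have hcr : c ^ r = 1 := hinj (by
    rw [map_pow, map_one, ← htdef, show t = g⁻¹ * x * g⁻¹⁻¹ by rw [hx]; group, conj_pow, hxr]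
    group)
  have hc1 : c ≠ 1 := by
    intro h
    rw [htdef, h, map_one] at hx
    have h1 : ext D F K (x0 : GL D.Idx F) = ext D F K 1 := by
      rw [← hxdef, hx, mul_one, mul_inv_cancel, map_one]
    have h2 : x0 = 1 := Subtype.ext (ext_injective h1)
    rw [h2, orderOf_one] at hx0
    exact hr.out.one_lt.ne hx0
  set h := g⁻¹ * phiG σ D g with hhdef
  have hh : h ∈ D.group K := mul_mem (inv_mem hg) (phiG_group σ X.S hg)
  have hσt : ∀ a : Fin D.rank → Kˣ, phiG σ D (Ok.tG D K a) = Ok.tG D K (a ^ q) := fun a => by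
    rw [phiG_tG]
    exact congrArg _ (funext fun i => Units.ext (by simp [hσ]))
  have hσext : ∀ y : GL D.Idx F, phiG σ D (ext D F K y) = ext D F K y := fun y =>
    (phiG_eq_self σ).2 fun i j => hσF _
  have hht : h * Ok.tG D K (c ^ q) = t * h := by
    have h1 : phiG σ D g * Ok.tG D K (c ^ q) * (phiG σ D g)⁻¹ = g * t * g⁻¹ := by
      rw [← hσt, ← map_inv, ← map_mul, ← map_mul, ← hx, hxdef, hσext]
    calc h * Ok.tG D K (c ^ q)
        = g⁻¹ * (phiG σ D g * Ok.tG D K (c ^ q) * (phiG σ D g)⁻¹) * phiG σ D g := by rw [hhdef]; group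
      _ = t * h := by rw [h1, hhdef]; group
  obtain ⟨w, hw, hwchi, hwmono⟩ := X.transfer hh hht
  have hwq : ∀ s : Fin D.nroots, chi D c (w s).val = chi D c s.val ^ q := fun s => by
    rw [hwchi s, X.al_pow]
  set M := Mz X.S T w with hM
  set α := X.al c with hα
  have hαM : star M α = α ^ (q : ℤ) := by
    funext j
    rw [X.star_al, hwq, _root_.zpow_natCast]
    rfl
  have hα1 : α ≠ 1 := fun h1 => hc1 (X.al_injective hker (h1.trans (map_one X.al).symm))
  have hαr : ∀ j, α j ^ r = 1 := fun j => by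
    have := congrFun (congrArg X.al hcr) j
    rwa [map_pow, map_one] at this
  obtain ⟨ζ, hζ, hlog⟩ := exists_log (ι := Fin D.rank) (H := Kˣ) (hrN.trans hNd)
  obtain ⟨k, hk⟩ := hlog α hαr
  set k' : Fin D.rank → ZMod r := fun j => (k j : ZMod r) with hk'
  have hk0 : k' ≠ 0 := fun h1 => hα1 (funext fun j => by
    rw [hk j]
    exact orderOf_dvd_iff_pow_eq_one.1 (hζ.symm ▸ (ZMod.natCast_eq_zero_iff _ _).1 (congrFun h1 j)))
  have hkM : red r M *ᵥ k' = (q : ZMod r) • k' := by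
    have h1 : star (Matrix.scalar (Fin D.rank) (q : ℤ) - M) (fun j => ζ ^ k j) = 1 := by
      rw [← funext hk, star_sub, star_scalar, hαM, div_self']
    have h2 := (star_zeta _ hζ k).1 h1
    rw [map_sub, sub_mulVec, sub_eq_zero,
      show Matrix.scalar (Fin D.rank) (q : ℤ) = algebraMap ℤ _ (q : ℤ) from rfl, AlgHom.commutes,
      Algebra.algebraMap_eq_smul_one, smul_mulVec, one_mulVec, ← Int.cast_smul_eq_zsmul (ZMod r),
      Int.cast_natCast] at h2
    exact h2.symm
  have hchar : M.charpoly = cyclotomic e ℤ :=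
    charpoly_eq (X.pow_card_eq_one hw) hrW he (by rw [hn, Fintype.card_fin]) hqprim hk0 hkM
  -- the stabiliser of the element is trivial
  let St : Subgroup ↥X.S.WG :=
    { carrier := {y | ∀ s : Fin D.nroots, chi D c (y.1 s).val = chi D c s.val}
      one_mem' := fun s => rfl
      mul_mem' := fun {a b} ha hb s => (ha (b.1 s)).trans (hb s)
      inv_mem' := fun {a} ha s => by
        have := ha ((a⁻¹ : ↥X.S.WG).1 s)
        rw [Subgroup.coe_inv, Equiv.Perm.inv_def, Equiv.apply_symm_apply] at this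
        exact this.symm }
  have hSt : ∀ y ∈ X.S.WG, (∀ s : Fin D.nroots, chi D c (y s).val = chi D c s.val) → y = 1 := by
    intro y hy hyc
    have : Fintype ↥St := Fintype.ofFinite _
    have h1 := eq_one_of_fixed (r := r) he (by rw [hn, Fintype.card_fin]) hchar (X.rep.comp St.subtype)
      (fun hd => hrW (hd.trans (by rw [← Nat.card_eq_fintype_card]; exact Subgroup.card_subgroup_dvd_card St)))
      hk0 (fun y => ?_) (fun y => ?_) (⟨⟨y, hy⟩, hyc⟩⁻¹ : ↥St)
    · refine X.eq_one_of_Mz hy ?_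
      simpa [Dat.rep] using h1
    · show red r (Mz X.S T ((y.1⁻¹ : ↥X.S.WG)).1) *ᵥ k' = k'
      have hy1 : star (Mz X.S T ((y.1⁻¹ : ↥X.S.WG)).1 - 1) (fun j => ζ ^ k j) = 1 := by
        rw [← funext hk, star_sub, star_one, div_eq_one]
        funext j
        rw [X.star_al]
        exact (St.inv_mem y.2) (X.S.sp j)
      have h2 := (star_zeta _ hζ k).1 hy1
      rwa [map_sub, map_one, sub_mulVec, one_mulVec, sub_eq_zero] at h2
    · have hwW : (⟨w, hw⟩ : ↥X.S.WG) * y.1 * (⟨w, hw⟩ : ↥X.S.WG)⁻¹ ∈ St := by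
        intro s
        show chi D c (w (y.1.1 (w⁻¹ s))).val = _
        rw [hwq, y.2 (w⁻¹ s), ← hwq, Equiv.Perm.inv_def, Equiv.apply_symm_apply]
      refine ⟨⟨_, hwW⟩, ?_⟩
      show Mz X.S T (y.1⁻¹ : ↥X.S.WG).1 * Mz X.S T w = Mz X.S T w * Mz X.S T _
      refine (X.Mz_mul hw).symm.trans (Eq.trans ?_
        (X.Mz_mul (((⟨w, hw⟩ : ↥X.S.WG) * y.1 * (⟨w, hw⟩ : ↥X.S.WG)⁻¹)⁻¹).2))
      congr 1
      simp [mul_assoc]
  have hreg : ∀ s < D.nroots, chi D c s ≠ 1 := by
    intro s hs hs1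
    obtain ⟨w1, hw1, i, e1⟩ := X.exists_orbit s hs
    let β : Fin D.rank → Kˣ := fun j => chi D c (w1 (X.S.sp j)).val
    have hz : ∀ y : Fin D.nroots, chi D c (w1 y).val = ∏ j, β j ^ htAt T y.val j := by
      intro y
      rw [X.chi_root]
      simp only [β, X.ht_apply hw1, ← prod_zpow_sum]
      rw [Finset.prod_comm]
      refine Finset.prod_congr rfl fun j _ => ?_
      rw [X.chi_root c (w1 (X.S.sp j)), ← Finset.prod_zpow]
      exact Finset.prod_congr rfl fun l _ => by rw [← _root_.zpow_mul, mul_comm]; rfl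
    have hfixy : ∀ y : Fin D.nroots, chi D c (w1 (X.S.wp i y)).val = chi D c (w1 y).val := by
      intro y
      rw [hz, hz]
      refine Finset.prod_congr rfl fun j _ => ?_
      by_cases hj : j = i
      · have : β j = 1 := by
          show chi D c (w1 (X.S.sp j)).val = 1
          rw [hj, e1, hs1]
        simp [this]
      · rw [Struct.wp_val, Cfsg.Lib.Steinberg.lin_ne X.hl i.isLt y.isLt j.isLt (fun h => hj (Fin.ext h))]
    have h1 : w1 * X.S.wp i * w1⁻¹ = 1 := by
      refine hSt _ (mul_mem (mul_mem hw1 (Subgroup.subset_closure ⟨i, rfl⟩)) (inv_mem hw1)) fun y => ?_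
      rw [Equiv.Perm.mul_apply, Equiv.Perm.mul_apply, hfixy, Equiv.Perm.inv_def, Equiv.apply_symm_apply]
    rw [mul_inv_eq_one, mul_eq_left] at h1
    have h2 := congrArg Fin.val (DFunLike.congr_fun h1 (X.S.sp i))
    rw [Struct.wp_val, Equiv.Perm.one_apply] at h2
    have h3 := (X.S.ok.refl_simple i.isLt).1
    have h4 := X.S.neg_lt_half (X.S.ok.sr_lt i.isLt) (X.S.sr_pos i.isLt)
    have h5 := X.S.sr_pos i.isLt
    rw [X.S.ok.neg_eq (X.S.ok.sr_lt i.isLt)] at h3
    simp only [Struct.sp] at h2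
    omega
  have hregq : ∀ s < D.nroots, chi D (c ^ q) s ≠ 1 := fun s hs => by
    have h1 := hreg (w ⟨s, hs⟩).val (Fin.isLt _)
    rwa [hwq ⟨s, hs⟩, ← congrFun (X.al_pow c q) s] at h1
  obtain ⟨hhm, hact⟩ := hwmono hregq hreg
  -- the torus
  obtain ⟨hcyc, hcard⟩ := torus_cyclic (H := Kˣ) hchar hNev hN0 hNd hbad
  let L : (Fin D.rank → Kˣ) ≃* (Fin D.rank → Kˣ) := MulEquiv.ofBijective X.al (X.al_bijective hker)
  let J : ↥(torus Kˣ M (q : ℤ)) →* GL D.Idx K :=
    (MulAut.conj g).toMonoidHom.comp ((Ok.tG D K).comp (L.symm.toMonoidHom.comp (torus Kˣ M (q : ℤ)).subtype))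
  have hJinj : Function.Injective J := fun a b hab =>
    Subtype.ext (L.symm.injective (hinj ((MulAut.conj g).injective hab)))
  have hMinj : Function.Injective (star (H := Kˣ) M) := by
    intro a b hab
    have h1 : M ^ (Nat.card ↥X.S.WG - 1) * M = 1 := by
      rw [← pow_succ, Nat.sub_add_cancel Nat.card_pos]
      exact X.pow_card_eq_one hw
    rw [← star_one a, ← star_one b, ← h1, star_mul, star_mul, hab]
  let Z := Subgroup.centralizer ({x0} : Set ↥(D.group F))
  have hconj : ∀ a : Fin D.rank → Kˣ, ∃ b, h * Ok.tG D K (a ^ q) * h⁻¹ = Ok.tG D K b ∧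
      star M (X.al b) = X.al a ^ (q : ℤ) := by
    intro a
    have h1 := X.S.norm_diag hhm (X.S.tG_mem_diag (a ^ q))
    rw [X.S.ok.diagonalSubgroup_eq] at h1
    obtain ⟨b, hb⟩ := h1
    refine ⟨b, hb.symm, funext fun j => ?_⟩
    rw [X.star_al, X.chi_of_conj hact hb.symm, congrFun (X.al_pow a q), _root_.zpow_natCast]
    rfl
  have hrange : (Z.map ((ext D F K).comp (D.group F).subtype)) = J.range := by
    refine le_antisymm ?_ ?_
    · rintro _ ⟨z, hz, rfl⟩
      set y := g⁻¹ * ext D F K (z : GL D.Idx F) * g with hy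
      have hyG : y ∈ D.group K := mul_mem (mul_mem (inv_mem hg) (ext_mem_group X.S z.2)) hg
      have hzx : ext D F K (z : GL D.Idx F) * x = x * ext D F K (z : GL D.Idx F) := by
        rw [hxdef, ← map_mul, ← map_mul, ← Subgroup.coe_mul, ← Subgroup.coe_mul]
        exact congrArg (fun v : ↥(D.group F) => ext D F K (v : GL D.Idx F))
          ((Subgroup.mem_centralizer_iff.1 hz x0 rfl).symm)
      have hyt : y * t = t * y := by
        calc y * t = g⁻¹ * (ext D F K (z : GL D.Idx F) * x) * g := by rw [hy, hx]; group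
          _ = t * y := by rw [hzx, hy, hx]; group
      obtain ⟨w', hw', hw'chi, hw'm⟩ := X.transfer hyG hyt
      obtain ⟨hym, hyact⟩ := hw'm hreg hreg
      rw [hSt w' hw' hw'chi] at hyact
      obtain ⟨L', hact', hiff⟩ := X.S.exists_act hym
      have hyd := hiff.1 (X.S.act_unique hact' hyact)
      rw [X.S.ok.diagonalSubgroup_eq] at hyd
      obtain ⟨a, ha⟩ := hyd
      obtain ⟨b, hb, hbM⟩ := hconj a
      have hfixy : h * Ok.tG D K (a ^ q) * h⁻¹ = Ok.tG D K a := by
        rw [← hσt, ha, hy, hhdef, map_mul, map_mul, map_inv, hσext]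
        group
      rw [hinj (hb.symm.trans hfixy)] at hbM
      refine ⟨⟨X.al a, mem_torus.2 hbM⟩, ?_⟩
      show g * Ok.tG D K (L.symm (X.al a)) * g⁻¹ = ext D F K (z : GL D.Idx F)
      rw [show L.symm (X.al a) = a from L.symm_apply_apply a, ha, hy]
      group
    · rintro _ ⟨a, rfl⟩
      set c' := L.symm a.1 with hc'
      have hal : X.al c' = a.1 := L.apply_symm_apply a.1
      have hJa : J a = g * Ok.tG D K c' * g⁻¹ := rfl
      obtain ⟨b, hb, hbM⟩ := hconj c'
      have hbc : b = c' := X.al_injective hker (hMinj (by rw [hbM, hal, (mem_torus.1 a.2)]))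
      have hJfix : phiG σ D (J a) = J a := by
        rw [hJa, map_mul, map_mul, map_inv, hσt]
        calc phiG σ D g * Ok.tG D K (c' ^ q) * (phiG σ D g)⁻¹
            = g * (h * Ok.tG D K (c' ^ q) * h⁻¹) * g⁻¹ := by rw [hhdef]; group
          _ = _ := by rw [hb, hbc]
      have hJG : J a ∈ D.group K := by
        rw [hJa]
        exact mul_mem (mul_mem hg (hdiag_le (X.S.tG_mem_diag c'))) (inv_mem hg)
      obtain ⟨y0, hy0, hy0e⟩ := fixed_mem X hσF hfix hker hJG hJfix
      refine ⟨⟨y0, hy0⟩, Subgroup.mem_centralizer_iff.2 ?_, hy0e⟩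
      intro v hv
      rw [Set.mem_singleton_iff.1 hv]
      refine Subtype.ext (ext_injective (K := K) ?_)
      show ext D F K ((x0 : GL D.Idx F) * y0) = ext D F K (y0 * (x0 : GL D.Idx F))
      rw [map_mul, map_mul, hy0e, ← hxdef, hx, hJa, htdef]
      calc g * Ok.tG D K c * g⁻¹ * (g * Ok.tG D K c' * g⁻¹) = g * (Ok.tG D K c * Ok.tG D K c') * g⁻¹ := by group
        _ = g * (Ok.tG D K c' * Ok.tG D K c) * g⁻¹ := by rw [← map_mul, ← map_mul, mul_comm]
        _ = _ := by group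
  have hφinj : Function.Injective ((ext D F K).comp (D.group F).subtype) :=
    (ext_injective (D := D)).comp Subtype.val_injective
  let E : ↥Z ≃* ↥(torus Kˣ M (q : ℤ)) :=
    ((Subgroup.equivMapOfInjective Z _ hφinj).trans (MulEquiv.subgroupCongr hrange)).trans
      (MonoidHom.ofInjective hJinj).symm
  have hZcyc : IsCyclic ↥Z := E.symm.isCyclic.1 hcyc
  refine ⟨⟨hZcyc, (Nat.card_congr E.toEquiv).trans hcard⟩, ?_⟩
  intro k hk n j hnj
  set n' := ext D F K (n : GL D.Idx F) with hn'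
  have hn'x : n' * x * n'⁻¹ = x ^ j := by
    rw [hn', hxdef, ← map_inv, ← map_mul, ← map_mul, ← map_pow, ← SubmonoidClass.coe_pow, ← hnj]
    rfl
  have hy : g⁻¹ * n' * g ∈ D.group K := mul_mem (mul_mem (inv_mem hg) (ext_mem_group X.S n.2)) hg
  have hyt : g⁻¹ * n' * g * Ok.tG D K c = Ok.tG D K (c ^ j) * (g⁻¹ * n' * g) := by
    have h1 : t ^ j = g⁻¹ * x ^ j * g := by
      rw [show t = g⁻¹ * x * g⁻¹⁻¹ by rw [hx]; group, conj_pow, inv_inv]
    rw [map_pow, ← htdef, h1, ← hn'x, hx]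
    group
  obtain ⟨v, hv, hvchi, -⟩ := X.transfer hy hyt
  have hit : ∀ (i : ℕ) (s : Fin D.nroots), chi D c ((v ^ i) s).val ^ (j ^ i) = chi D c s.val := by
    intro i
    induction i with
    | zero => intro s; simp
    | succ i ih =>
      intro s
      rw [pow_succ v, Equiv.Perm.mul_apply, pow_succ, pow_mul, ih (v s)]
      exact (congrFun (X.al_pow c j) _).symm.trans (hvchi s)
  have hc : c ^ (j ^ k) = c := by
    refine X.al_injective hker (funext fun i => ?_)
    show chi D (c ^ (j ^ k)) (X.S.sp i).val = chi D c (X.S.sp i).val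
    have h2 := hit k (X.S.sp i)
    rw [hk v hv, Equiv.Perm.one_apply] at h2
    exact (congrFun (X.al_pow c _) _).trans h2
  refine Subtype.ext (ext_injective (K := K) ?_)
  rw [SubmonoidClass.coe_pow, map_pow, ← hxdef, hx, conj_pow, htdef, ← map_pow, hc]

theorem torus_at' {F : Type*} [Field F] [Fintype F] (X : Dat D C T)
    {k : ℕ} {v w : List ℤ} {B : List (List ℤ)} (hker : St.okTorus D 1 k v w B = true)
    {e : ℕ} (he : 0 < e) (hn : Nat.totient e = D.rank) (hrank : 0 < D.rank)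
    {N : ℕ} (hNev : (cyclotomic e ℤ).eval (Fintype.card F : ℤ) = N) (hN0 : N ≠ 0)
    (hbad : ∀ ℓ : ℕ, ℓ.Prime → ℓ ∣ N → ¬ ℓ ∣ e ∨ ¬ ℓ ^ 2 ∣ N)
    {r : ℕ} (hr : r.Prime) (hrN : r ∣ N) (hre : ¬ r ∣ e) (hrW : ¬ r ∣ Nat.card ↥X.S.WG)
    (x0 : ↥(D.group F)) (hx0 : orderOf x0 = r) :
    (IsCyclic ↥(Subgroup.centralizer ({x0} : Set ↥(D.group F))) ∧
      Nat.card ↥(Subgroup.centralizer ({x0} : Set ↥(D.group F))) = N) ∧
    ∀ k : ℕ, (∀ w ∈ X.S.WG, w ^ k = 1) → ∀ (n : ↥(D.group F)) (j : ℕ), n * x0 * n⁻¹ = x0 ^ j →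
      x0 ^ (j ^ k) = x0 := by
  classical
  obtain ⟨p, hc⟩ := CharP.exists F
  have : Fact p.Prime := ⟨CharP.char_is_prime F p⟩
  have : Fact r.Prime := ⟨hr⟩
  have : NeZero e := ⟨he.ne'⟩
  rw [← Nat.card_eq_fintype_card] at hNev
  let K := FiniteField.Extension F p e
  let σ : K →+* K := (FiniteField.Extension.frob F p e).toRingEquiv.toRingHom
  have hσ : ∀ x, σ x = x ^ Nat.card F := fun x => FiniteField.Extension.frob_apply F p e
  have hfix : ∀ x, σ x = x → x ∈ Set.range (algebraMap F K) := by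
    intro x hx
    refine (IsGalois.mem_range_algebraMap_iff_fixed x).2 fun f => ?_
    obtain ⟨i, -, rfl⟩ := FiniteField.Extension.exists_frob_pow_eq F p e f
    induction i with
    | zero => rfl
    | succ i ih => rw [pow_succ, AlgEquiv.mul_apply]; rw [show (FiniteField.Extension.frob F p e) x = x from hx, ih]
  exact torus_at (K := K) X (St.torus_ker_trivial X.S.ok hker) σ hσ hfix he hn hrank
    (FiniteField.natCard_extension F p e) hNev hN0 hbad hrN hre hrW x0 hx0

end Cfsg.Lib.Chev.Springer
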