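import Mathlib

/-! Homocyclic abelian groups from counting. -/

set_option autoImplicit false

namespace Cfsg.Lib.Chev.Springer

/-- If every element of a subgroup `V` of exponent `r` is an `r ^ k`-th power in `G`, then `|V| ^ (k + 1) ≤ |G|`. -/
theorem card_pow_le {G : Type*} [CommGroup G] [Finite G] {r : ℕ} (V : Subgroup G) (hV : ∀ v ∈ V, v ^ r = 1) :
    ∀ k : ℕ, V ≤ (powMonoidHom (r ^ k) : G →* G).range → Nat.card ↥V ^ (k + 1) ≤ Nat.card G := by
  suffices H : ∀ k : ℕ, ∀ j : ℕ, V ≤ (powMonoidHom (r ^ (j + k)) : G →* G).range →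
      Nat.card ↥V ^ (k + 1) ≤ Nat.card ↥(powMonoidHom (r ^ j) : G →* G).range by
    intro k hk
    refine le_trans (H k 0 (by rwa [zero_add])) ?_
    exact Subgroup.card_le_card_group _
  intro k
  induction k with
  | zero =>
    intro j hj
    rw [add_zero] at hj
    rw [zero_add, pow_one]
    exact Subgroup.card_le_of_le hj
  | succ k ih =>
    intro j hj
    have h1 := ih (j + 1) (by rwa [show j + 1 + k = j + (k + 1) by omega])
    let φ : ↥(powMonoidHom (r ^ j) : G →* G).range →* G := (powMonoidHom r).comp (Subgroup.subtype _)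
    have h2 : φ.range = (powMonoidHom (r ^ (j + 1)) : G →* G).range := by
      ext y
      constructor
      · rintro ⟨⟨_, x, rfl⟩, rfl⟩
        exact ⟨x, by show x ^ r ^ (j + 1) = (x ^ r ^ j) ^ r; rw [← pow_mul, pow_succ]⟩
      · rintro ⟨x, rfl⟩
        exact ⟨⟨_, x, rfl⟩, by show (x ^ r ^ j) ^ r = x ^ r ^ (j + 1); rw [← pow_mul, pow_succ]⟩
    have hle : V ≤ (powMonoidHom (r ^ j) : G →* G).range := by
      intro v hv
      obtain ⟨x, rfl⟩ := hj hv
      exact ⟨x ^ r ^ (k + 1), by
        show (x ^ r ^ (k + 1)) ^ r ^ j = x ^ r ^ (j + (k + 1))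
        rw [← pow_mul, ← pow_add, add_comm]⟩
    have h3 : Nat.card ↥V ≤ Nat.card ↥φ.ker :=
      Nat.card_le_card_of_injective (fun v => (⟨⟨v.1, hle v.2⟩, hV v.1 v.2⟩ : ↥φ.ker))
        (fun a b h => Subtype.ext (congrArg (fun x : ↥φ.ker => (x.1 : G)) h))
    rw [← Subgroup.card_mul_index φ.ker, Subgroup.index_ker, h2, pow_succ, mul_comm]
    exact Nat.mul_le_mul h3 h1

/-- An abelian group of order `r ^ (k * a)`, exponent dividing `r ^ k` and at most `r ^ a` elements of order
dividing `r` is homocyclic. -/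
theorem homocyclic {G : Type*} [CommGroup G] [Finite G] {r k a : ℕ} (hr : r.Prime) (hk : 0 < k)
    (hexp : ∀ x : G, x ^ r ^ k = 1) (hcard : Nat.card G = (r ^ k) ^ a)
    (hrank : Nat.card ↥(powMonoidHom r : G →* G).ker ≤ r ^ a) :
    Nonempty (G ≃* (Fin a → Multiplicative (ZMod (r ^ k)))) := by
  classical
  obtain ⟨ι, hι, n, hn, ⟨E⟩⟩ := CommGroup.equiv_prod_multiplicative_zmod_of_finite G
  have : ∀ i, NeZero (n i) := fun i => ⟨by have := hn i; omega⟩
  have hdvd : ∀ i, n i ∣ r ^ k := fun i => by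
    have h1 := congrArg E (hexp (E.symm (Pi.mulSingle i (Multiplicative.ofAdd (1 : ZMod (n i))))))
    rw [map_pow, E.apply_symm_apply, map_one E] at h1
    have h2 := congrFun h1 i
    rw [Pi.pow_apply, Pi.mulSingle_eq_same, Pi.one_apply] at h2
    rw [← ZMod.natCast_eq_zero_iff]
    have h3 := congrArg Multiplicative.toAdd h2
    simpa using h3
  have hrn : ∀ i, r ∣ n i := fun i => by
    obtain ⟨j, -, hj⟩ := (Nat.dvd_prime_pow hr).1 (hdvd i)
    rw [hj]
    refine dvd_pow_self _ fun h => ?_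
    have := hn i
    rw [hj, h, pow_zero] at this
    omega
  have hker : r ^ Fintype.card ι ≤ Nat.card ↥(powMonoidHom r : G →* G).ker := by
    have : ∀ i, ∃ y : Multiplicative (ZMod (n i)), orderOf y = r := fun i =>
      ⟨Multiplicative.ofAdd ((n i / r : ℕ) : ZMod (n i)), by
        rw [orderOf_ofAdd_eq_addOrderOf, ZMod.addOrderOf_coe _ (NeZero.ne _),
          Nat.gcd_eq_right (Nat.div_dvd_of_dvd (hrn i)),
          Nat.div_div_self (hrn i) (NeZero.ne _)]⟩
    choose y hy using this
    have : Nat.card (ι → Fin r) = r ^ Fintype.card ι := by simp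
    rw [← this]
    refine Nat.card_le_card_of_injective
      (fun f => (⟨E.symm fun i => y i ^ (f i).val, ?_⟩ : ↥(powMonoidHom r : G →* G).ker)) ?_
    · show (E.symm fun i => y i ^ (f i).val) ^ r = 1
      rw [← map_pow, ← map_one E.symm]
      congr 1
      funext i
      have h1 : y i ^ r = 1 := orderOf_dvd_iff_pow_eq_one.1 (hy i).dvd
      rw [Pi.pow_apply, ← pow_mul, mul_comm, pow_mul, h1, one_pow]
      rfl
    · intro f g h
      have h1 := E.symm.injective (congrArg Subtype.val h)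
      funext i
      refine Fin.ext (pow_injOn_Iio_orderOf ?_ ?_ (congrFun h1 i)) <;> simp [hy i]
  have hιa : Fintype.card ι ≤ a := (Nat.pow_le_pow_iff_right hr.one_lt).1 (hker.trans hrank)
  have hprod : ∏ i, n i = (r ^ k) ^ a := by
    rw [← hcard, Nat.card_congr E.toEquiv, Nat.card_pi]
    refine Finset.prod_congr rfl fun i _ => ?_
    rw [show Nat.card (Multiplicative (ZMod (n i))) = Nat.card (ZMod (n i)) from rfl, Nat.card_zmod]
  have hpos : 1 < r ^ k := Nat.one_lt_pow hk.ne' hr.one_lt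
  have hle : ∏ i, n i ≤ (r ^ k) ^ Fintype.card ι :=
    (Finset.prod_le_prod' fun i _ => Nat.le_of_dvd (by omega) (hdvd i)).trans_eq
      (by rw [Finset.prod_const, Finset.card_univ])
  have hιe : Fintype.card ι = a := le_antisymm hιa ((Nat.pow_le_pow_iff_right hpos).1 (hprod ▸ hle))
  have heq : ∀ i, n i = r ^ k := by
    intro i
    by_contra hne
    have h1 : ∏ i, n i < ∏ _i : ι, r ^ k :=
      Finset.prod_lt_prod (fun j _ => by have := hn j; omega) (fun j _ => Nat.le_of_dvd (by omega) (hdvd j))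
        ⟨i, Finset.mem_univ _, lt_of_le_of_ne (Nat.le_of_dvd (by omega) (hdvd i)) hne⟩
    rw [hprod, Finset.prod_const, Finset.card_univ, hιe] at h1
    exact lt_irrefl _ h1
  obtain rfl : n = fun _ => r ^ k := funext heq
  exact ⟨E.trans (MulEquiv.arrowCongr (Fintype.equivFinOfCardEq hιe) (MulEquiv.refl _))⟩

end Cfsg.Lib.Chev.Springer
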