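import Cfsg.Agent.Chev.Springer.Torsion
import Cfsg.Agent.Chev.Springer.Abelian

/-! Homocyclic Sylow subgroups for primes away from the Weyl group. -/

set_option autoImplicit false

open Cfsg.Lie

namespace Cfsg.Lib.Chev.Springer

open Matrix

variable {D : ChevalleyDatum} {C : Cert} {T : List (List ℤ)}
variable {F K : Type*} [Field F] [Field K] [Algebra F K] [Finite F] [Finite K]

theorem fixed_U_of (X : Dat D C T) {c c' : Fin D.rank → Kˣ}
    {u : GL D.Idx K} (hu : u ∈ D.posUnipotent K) (hfix : MulAut.conj (Ok.tG D K c) u = u) :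
    ∃ tt : ℕ → K, u = X.S.pw (D.nroots / 2) tt ∧
      ((∀ s, D.nroots / 2 ≤ s → s < D.nroots → tt s ≠ 0 → chi D c' s = 1) → MulAut.conj (Ok.tG D K c') u = u) ∧
      (∀ s, D.nroots / 2 ≤ s → s < D.nroots → tt s ≠ 0 → chi D c s = 1) := by
  have hs := X.S.hsum
  have hu' := hu
  rw [X.S.posUnipotent_eq] at hu'
  obtain ⟨t, rfl⟩ := X.S.exists_pw (D.nroots - D.nroots / 2) (D.nroots / 2) (by omega) le_rfl u hu'
  refine ⟨t, rfl, fun h => ?_, fun s h1 h2 hne => ?_⟩
  · rw [X.S.conjTG_pw]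
    refine X.S.pw_congr fun s h1 h2 => ?_
    by_cases hne : t s = 0
    · rw [hne, mul_zero]
    · rw [h s h1 h2 hne, Units.val_one, one_mul]
  · rw [X.S.conjTG_pw] at hfix
    have e := X.S.pw_inj (D.nroots - D.nroots / 2) (D.nroots / 2) (by omega) le_rfl _ _ hfix s h1 h2
    refine Units.ext ?_
    rw [Units.val_one]
    exact mul_right_cancel₀ hne (e.trans (one_mul _).symm)

theorem chi_orbit (X : Dat D C T) {w1 : Equiv.Perm (Fin D.nroots)} (hw1 : w1 ∈ X.S.WG) (b : Fin D.rank → Kˣ)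
    (y : Fin D.nroots) :
    chi D b (w1 y).val = ∏ j : Fin D.rank, chi D b (w1 (X.S.sp j)).val ^ htAt T y.val j := by
  rw [X.chi_root]
  simp only [X.ht_apply hw1, ← prod_zpow_sum]
  rw [Finset.prod_comm]
  refine Finset.prod_congr rfl fun j _ => ?_
  rw [X.chi_root b (w1 (X.S.sp j)), ← Finset.prod_zpow]
  exact Finset.prod_congr rfl fun l _ => by rw [← _root_.zpow_mul, mul_comm]; rfl

/-- The reflection of a root killed by a diagonal element fixes it. -/
theorem refl_fix (X : Dat D C T) {w1 : Equiv.Perm (Fin D.nroots)} (hw1 : w1 ∈ X.S.WG) {i : Fin D.rank} {s : ℕ}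
    (e1 : (w1 (X.S.sp i)).val = s) {b : Fin D.rank → Kˣ} (hb : chi D b s = 1) (z : Fin D.nroots) :
    chi D b ((w1 * X.S.wp i * w1⁻¹) z).val = chi D b z.val := by
  obtain ⟨z, rfl⟩ := w1.surjective z
  simp only [Equiv.Perm.mul_apply, Equiv.Perm.inv_def, Equiv.symm_apply_apply]
  rw [chi_orbit X hw1, chi_orbit X hw1 b z]
  refine Finset.prod_congr rfl fun j _ => ?_
  by_cases hj : j = i
  · rw [hj, e1, hb, _root_.one_zpow, _root_.one_zpow]
  · rw [Struct.wp_val, Cfsg.Lib.Steinberg.lin_ne X.hl i.isLt (Fin.isLt _) j.isLt (fun h => hj (Fin.ext h))]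

theorem refl_sq (X : Dat D C T) {w1 : Equiv.Perm (Fin D.nroots)} (hw1 : w1 ∈ X.S.WG) {i : Fin D.rank} {s : ℕ}
    (e1 : (w1 (X.S.sp i)).val = s) (hw2 : w1 * X.S.wp i * w1⁻¹ ∈ X.S.WG) {c : Fin D.rank → Kˣ}
    (h : star (Mz X.S T (w1 * X.S.wp i * w1⁻¹)) (X.al c) = X.al c) : chi D c s ^ 2 = 1 := by
  have h1 := X.chi_w hw2 h (w1 (X.S.sp i))
  have hlt := X.S.ok.sr_lt i.isLt
  have hneg : D.neg (X.S.sp i).val < D.nroots := by
    have := (X.S.order_row hlt).1
    simp only [Struct.sp]; omega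
  have h2 : chi D c (w1 ⟨D.neg (X.S.sp i).val, hneg⟩).val = (chi D c (w1 (X.S.sp i)).val)⁻¹ := by
    rw [chi_orbit X hw1 c ⟨_, hneg⟩, chi_orbit X hw1 c (X.S.sp i), ← Finset.prod_inv_distrib]
    refine Finset.prod_congr rfl fun j _ => ?_
    rw [← _root_.zpow_neg, (ht_row X.hT (X.S.sp i).isLt j.isLt).1]
  have e3 : (w1 * X.S.wp i * w1⁻¹) (w1 (X.S.sp i)) = w1 ⟨D.neg (X.S.sp i).val, hneg⟩ := by
    simp only [Equiv.Perm.mul_apply, Equiv.Perm.inv_def, Equiv.symm_apply_apply]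
    congr 1
    refine Fin.ext ?_
    rw [Struct.wp_val]
    show C.w i.val (C.sr i.val) = D.neg (C.sr i.val)
    rw [(X.S.ok.refl_simple i.isLt).1, X.S.ok.neg_eq hlt]
  rw [e3, h2, e1] at h1
  rw [pow_two]
  exact mul_eq_one_iff_eq_inv.2 h1.symm

theorem chi_pow_one (X : Dat D C T) {c : Fin D.rank → Kˣ} {m : ℕ} (h : X.al c ^ m = 1) (z : Fin D.nroots) :
    chi D c z.val ^ m = 1 := by
  rw [X.chi_root, ← Finset.prod_pow]
  refine Finset.prod_eq_one fun j _ => ?_
  rw [← _root_.zpow_natCast, ← _root_.zpow_mul, mul_comm, _root_.zpow_mul, _root_.zpow_natCast,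
    show chi D c (X.S.sp j).val ^ m = 1 from congrFun h j, _root_.one_zpow]

theorem sylow_homocyclic (X : Dat D C T) {E : ℕ} (hE : ∀ c ∈ (Ok.tG D K).ker, c ^ E = 1)
    (σ : K →+* K) (hσ : ∀ x, σ x = x ^ Nat.card F) (hfix : ∀ x, σ x = x → x ∈ Set.range (algebraMap F K))
    {d : ℕ} (hd0 : 0 < d) (hdeg : Nat.card K = Nat.card F ^ d)
    {r : ℕ} [hr : Fact r.Prime] (hr2 : r ≠ 2) (hrE : ¬ r ∣ E) (hrd : ¬ r ∣ d) (hrW : ¬ r ∣ Nat.card ↥X.S.WG)
    {k a : ℕ} (hk : 0 < k) (hkQ : r ^ k ∣ Nat.card K - 1) (hkmax : ¬ r ^ (k + 1) ∣ Nat.card K - 1)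
    (P : Sylow r ↥(D.group F)) (hP : Nat.card ↥(P : Subgroup ↥(D.group F)) = (r ^ k) ^ a) :
    Nonempty (↥(P : Subgroup ↥(D.group F)) ≃* (Fin a → Multiplicative (ZMod (r ^ k)))) := by
  classical
  have : Fintype K := Fintype.ofFinite K
  set q := Nat.card F with hqdef
  set m := r ^ k with hm
  have hmE : m.Coprime E := (Nat.Coprime.pow_left k (hr.out.coprime_iff_not_dvd.2 hrE))
  have hT : TorOK D K m := ⟨⟨E, hmE, hE⟩⟩
  have hσF : ∀ b, σ (algebraMap F K b) = algebraMap F K b := fun b => by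
    have := Fintype.ofFinite F
    rw [hσ, ← map_pow, hqdef, Nat.card_eq_fintype_card, FiniteField.pow_card]
  have hσt : ∀ b : Fin D.rank → Kˣ, phiG σ D (Ok.tG D K b) = Ok.tG D K (b ^ q) := fun b => by
    rw [phiG_tG]
    exact congrArg _ (funext fun i => Units.ext (by simp [hσ]))
  have hσext : ∀ y : GL D.Idx F, phiG σ D (ext D F K y) = ext D F K y := fun y =>
    (phiG_eq_self σ).2 fun i j => hσF _
  -- conjugate the Sylow subgroup into the diagonal
  let φ : ↥(P : Subgroup ↥(D.group F)) →* GL D.Idx K :=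
    (ext D F K).comp ((D.group F).subtype.comp (P : Subgroup ↥(D.group F)).subtype)
  have hφinj : Function.Injective φ :=
    (ext_injective (D := D)).comp (Subtype.val_injective.comp Subtype.val_injective)
  let φG : ↥(P : Subgroup ↥(D.group F)) →* ↥(D.group K) :=
    φ.codRestrict (D.group K) fun y => ext_mem_group X.S (y : ↥(D.group F)).2
  have hdiag_le : D.diagonalSubgroup K ≤ D.group K := le_sup_right.trans X.S.borel_le_group
  obtain ⟨mi, hmi, hmiW⟩ := card_group_modEq X (r := r) (Nat.card_eq_fintype_card (α := K) ▸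
    (dvd_pow_self r hk.ne').trans hkQ)
  have hmi0 : ¬ r ∣ mi := fun h => hrW ((ZMod.natCast_eq_zero_iff _ _).1
    (hmiW ▸ (ZMod.natCast_eq_zero_iff _ _).2 h))
  have hindex : ((D.diagonalSubgroup K).subgroupOf (D.group K)).index = mi := by
    have h := Subgroup.card_mul_index ((D.diagonalSubgroup K).subgroupOf (D.group K))
    rw [Nat.card_congr (Subgroup.subgroupOfEquivOfLe hdiag_le).toEquiv, hmi] at h
    exact Nat.eq_of_mul_eq_mul_left Nat.card_pos h
  obtain ⟨g0, hg0⟩ : ∃ g0 : ↥(D.group K), ∀ y,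
      ((g0 : GL D.Idx K))⁻¹ * φ y * (g0 : GL D.Idx K) ∈ D.diagonalSubgroup K := by
    set Q := (D.diagonalSubgroup K).subgroupOf (D.group K)
    obtain ⟨p, hp⟩ := ((P.2.to_subgroup ⊤).map φG).nonempty_fixed_point_of_prime_not_dvd_card (↥(D.group K) ⧸ Q)
      (by rw [← Subgroup.index_eq_card, hindex]; exact hmi0)
    obtain ⟨g, rfl⟩ := QuotientGroup.mk_surjective p
    refine ⟨g, fun y => ?_⟩
    have h := hp ⟨φG y, ⟨y, Subgroup.mem_top _, rfl⟩⟩
    have h2 : ((φG y * g : ↥(D.group K)) : ↥(D.group K) ⧸ Q) = (g : ↥(D.group K) ⧸ Q) := h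
    have h3 := QuotientGroup.eq.1 h2.symm
    rw [Subgroup.mem_subgroupOf] at h3
    simpa [mul_assoc, φG] using h3
  set g : GL D.Idx K := (g0 : GL D.Idx K) with hgdef
  have hg : g ∈ D.group K := g0.2
  have hsec : ∀ y, ∃ c : Fin D.rank → Kˣ, c ^ m = 1 ∧ φ y = g * Ok.tG D K c * g⁻¹ := by
    intro y
    have h1 := hg0 y
    rw [X.S.ok.diagonalSubgroup_eq] at h1
    obtain ⟨c, hc⟩ := h1
    have hy : φ y = g * Ok.tG D K c * g⁻¹ := by rw [hc]; group
    have hQ : Ok.tG D K c ^ (Nat.card K - 1) = 1 := by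
      rw [← map_pow, show c ^ (Nat.card K - 1) = 1 from funext fun i => by
        rw [Pi.pow_apply, ← Nat.card_units]; exact pow_card_eq_one', map_one]
    obtain ⟨j, hj⟩ := (IsPGroup.iff_card.1 P.2)
    have hrj : Ok.tG D K c ^ r ^ j = 1 := by
      have h2 : φ y ^ r ^ j = 1 := by rw [← map_pow, ← hj, pow_card_eq_one', map_one]
      rw [hy, conj_pow] at h2
      exact conj_eq_one_iff.1 h2
    obtain ⟨i, hi, hord⟩ := (Nat.dvd_prime_pow hr.out).1 (orderOf_dvd_of_pow_eq_one hrj)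
    have hik : i ≤ k := by
      by_contra hlt
      exact hkmax ((pow_dvd_pow r (Nat.succ_le_of_lt (not_le.1 hlt))).trans (hord ▸ orderOf_dvd_of_pow_eq_one hQ))
    have hm1 : Ok.tG D K c ^ m = 1 := orderOf_dvd_iff_pow_eq_one.1 (hord ▸ pow_dvd_pow r hik)
    obtain ⟨c', hc', e⟩ := exists_torsion hT c hm1
    exact ⟨c', hc', by rw [hy, e]⟩
  choose cy hcy hφy using hsec
  have hcy_mul : ∀ y z, cy (y * z) = cy y * cy z := fun y z => by
    refine tG_torsion_inj hT (hcy _) (by rw [mul_pow, hcy, hcy, one_mul]) ?_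
    have h1 := hφy (y * z)
    rw [map_mul, hφy y, hφy z] at h1
    rw [map_mul]
    calc Ok.tG D K (cy (y * z)) = g⁻¹ * (g * Ok.tG D K (cy (y * z)) * g⁻¹) * g := by group
      _ = _ := by rw [← h1]; group
  let cH : ↥(P : Subgroup ↥(D.group F)) →* (Fin D.rank → Kˣ) := MonoidHom.mk' cy hcy_mul
  have hcHinj : Function.Injective cH := fun y z h => hφinj (by
    rw [hφy y, hφy z, show cy y = cy z from h])
  let _ : CommGroup ↥(P : Subgroup ↥(D.group F)) :=
    { (inferInstance : Group ↥(P : Subgroup ↥(D.group F))) with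
      mul_comm := fun y z => hcHinj (by rw [map_mul, map_mul, mul_comm]) }
  have hexp : ∀ y : ↥(P : Subgroup ↥(D.group F)), y ^ m = 1 := fun y =>
    hcHinj (by rw [map_pow, map_one]; exact hcy y)
  refine homocyclic hr.out hk hexp hP ?_
  -- the twisted automorphism
  set h := g⁻¹ * phiG σ D g with hhdef
  have hh : h ∈ D.group K := mul_mem (inv_mem hg) (phiG_group σ X.S hg)
  have hht : ∀ y, h * Ok.tG D K (cy y ^ q) = Ok.tG D K (cy y) * h := by
    intro y
    have h1 : phiG σ D g * Ok.tG D K (cy y ^ q) * (phiG σ D g)⁻¹ = g * Ok.tG D K (cy y) * g⁻¹ := by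
      rw [← hσt, ← map_inv, ← map_mul, ← map_mul, ← hφy y]
      exact hσext _
    calc h * Ok.tG D K (cy y ^ q)
        = g⁻¹ * (phiG σ D g * Ok.tG D K (cy y ^ q) * (phiG σ D g)⁻¹) * phiG σ D g := by rw [hhdef]; group
      _ = _ := by rw [h1, hhdef]; group
  obtain ⟨b0, hb, n, hn, L, hact, u, hu, hhe⟩ := X.S.normal_form X.hN hh
  obtain ⟨v, hv, d0, hd0', rfl⟩ := X.S.borel_decomp hb
  have heach : ∀ y, MulAut.conj (Ok.tG D K (cy y ^ q)) u = u ∧ MulAut.conj (Ok.tG D K (cy y)) v = v ∧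
      n * Ok.tG D K (cy y ^ q) * n⁻¹ = Ok.tG D K (cy y) := by
    intro y
    set s := Ok.tG D K (cy y ^ q)
    set t := Ok.tG D K (cy y)
    have hs : s ∈ D.diagonalSubgroup K := X.S.tG_mem_diag _
    have ht : t ∈ D.diagonalSubgroup K := X.S.tG_mem_diag _
    have hst : v * d0 * n * u * s = t * (v * d0 * n * u) := by rw [← hhe]; exact hht y
    have hsu : s * u * s⁻¹ ∈ X.S.UPsi K (Struct.Neg D (X.S.wpL L)) := by
      have hle : X.S.UPsi K (Struct.Neg D (X.S.wpL L)) ≤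
          (X.S.UPsi K (Struct.Neg D (X.S.wpL L))).comap (MulAut.conj s).toMonoidHom := by
        refine (Subgroup.closure_le _).2 ?_
        rintro z ⟨e, x, p1, p2, rfl⟩
        show s * X.S.ok.xG e.val x * s⁻¹ ∈ X.S.UPsi K (Struct.Neg D (X.S.wpL L))
        rw [X.S.tG_conj_xG e.isLt]
        exact Subgroup.subset_closure ⟨e, _, p1, p2, rfl⟩
      exact hle hu
    have hsn : n * s⁻¹ * n⁻¹ ∈ D.diagonalSubgroup K := X.S.norm_diag hn (inv_mem hs)
    have hb' : t * (v * d0) * (n * s⁻¹ * n⁻¹) ∈ D.borelSubgroup K :=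
      mul_mem (mul_mem (Subgroup.mem_sup_right ht) hb) (Subgroup.mem_sup_right hsn)
    have e : t * (v * d0) * (n * s⁻¹ * n⁻¹) * n * (s * u * s⁻¹) = v * d0 * n * u := by
      calc t * (v * d0) * (n * s⁻¹ * n⁻¹) * n * (s * u * s⁻¹) = t * (v * d0 * n * u) * s⁻¹ := by group
        _ = v * d0 * n * u := by rw [← hst]; group
    obtain ⟨eb, eu⟩ := X.S.normal_form_unique X.hN hb' hb hact hsu hu e
    have htv : t * v * t⁻¹ ∈ D.posUnipotent K :=
      (Subgroup.mem_normalizer_iff.1 (X.S.diag_normalises_U ht) v).1 hv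
    have e2 : t * v * t⁻¹ = v * (d0 * (t * d0 * (n * s⁻¹ * n⁻¹))⁻¹) := by
      calc t * v * t⁻¹ = (t * (v * d0) * (n * s⁻¹ * n⁻¹)) * (t * d0 * (n * s⁻¹ * n⁻¹))⁻¹ := by group
        _ = _ := by rw [eb, mul_assoc]
    have hdd : d0 * (t * d0 * (n * s⁻¹ * n⁻¹))⁻¹ ∈ D.diagonalSubgroup K :=
      mul_mem hd0' (inv_mem (mul_mem (mul_mem ht hd0') hsn))
    have h0 : d0 * (t * d0 * (n * s⁻¹ * n⁻¹))⁻¹ ∈ D.posUnipotent K ⊓ D.diagonalSubgroup K := by
      refine Subgroup.mem_inf.2 ⟨?_, hdd⟩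
      rw [show d0 * (t * d0 * (n * s⁻¹ * n⁻¹))⁻¹ = v⁻¹ * (v * (d0 * (t * d0 * (n * s⁻¹ * n⁻¹))⁻¹)) by group, ← e2]
      exact mul_mem (inv_mem hv) htv
    rw [X.S.U_inf_H, Subgroup.mem_bot] at h0
    rw [h0, mul_one] at e2
    refine ⟨eu, e2, ?_⟩
    rw [mul_inv_eq_one, X.S.diag_comm ht hd0', mul_assoc] at h0
    have h3 : t * (n * s⁻¹ * n⁻¹) = 1 := mul_eq_left.1 h0.symm
    have h6 := congrArg (·⁻¹) (eq_inv_of_mul_eq_one_right h3)
    simpa [mul_assoc] using h6
  set w := X.S.wpL L with hwdef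
  have hw : w ∈ X.S.WG := X.S.wpL_mem_WG L
  have hwq : ∀ y (s : Fin D.nroots), chi D (cy y) (w s).val = chi D (cy y) s.val ^ q := fun y s => by
    rw [X.chi_of_conj hact (heach y).2.2 s, X.al_pow]
  -- the arithmetic of `q`
  have hqd : q ^ d ≡ 1 [MOD m] := by
    rw [Nat.ModEq.comm, Nat.modEq_iff_dvd' (Nat.one_le_pow _ _ Nat.card_pos), ← hdeg]
    exact hkQ
  set u0 := q ^ (d - 1) with hu0def
  have hqu : q * u0 ≡ 1 [MOD m] := by
    rw [hu0def, ← pow_succ', Nat.sub_add_cancel (by omega)]; exact hqd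
  set m0 := Nat.card ↥X.S.WG * d with hm0def
  have hum0 : u0 ^ m0 ≡ 1 [MOD m] := by
    rw [hu0def, ← pow_mul, hm0def, show (d - 1) * (Nat.card ↥X.S.WG * d) = d * ((d - 1) * Nat.card ↥X.S.WG) by ring,
      pow_mul]
    simpa using hqd.pow ((d - 1) * Nat.card ↥X.S.WG)
  have hrm : r ∣ m := dvd_pow_self r hk.ne'
  have hqr : q.Coprime r := by
    refine (hr.out.coprime_iff_not_dvd.2 fun h => ?_).symm
    have h1 := (Nat.ModEq.of_dvd hrm hqd)
    rw [Nat.ModEq, Nat.pow_mod, Nat.mod_eq_zero_of_dvd h |>.trans rfl, zero_pow hd0.ne', Nat.zero_mod,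
      Nat.one_mod_eq_one.2 hr.out.ne_one] at h1
    omega
  set M := Mz X.S T w with hMdef
  have hMm0 : M ^ m0 = 1 := by rw [hm0def, pow_mul, X.pow_card_eq_one hw, one_pow]
  -- the stabiliser of the elements of order r
  let St : Subgroup ↥X.S.WG :=
    { carrier := {e | ∀ y, y ^ r = 1 → ∀ s : Fin D.nroots, chi D (cy y) (e.1 s).val = chi D (cy y) s.val}
      one_mem' := fun y _ s => rfl
      mul_mem' := fun {e f} he hf y hy s => (he y hy (f.1 s)).trans (hf y hy s)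
      inv_mem' := fun {e} he y hy s => by
        have := he y hy ((e⁻¹ : ↥X.S.WG).1 s)
        rw [Subgroup.coe_inv, Equiv.Perm.inv_def, Equiv.apply_symm_apply] at this
        exact this.symm }
  have hconjSt : ∀ e ∈ St, (⟨w, hw⟩ : ↥X.S.WG)⁻¹ * e * ⟨w, hw⟩ ∈ St := by
    intro e he y hy s
    have hyr : ∀ z : Fin D.nroots, chi D (cy y) z.val ^ r = 1 := fun z => by
      rw [← congrFun (X.al_pow (cy y) r) z.val, ← show cy (y ^ r) = cy y ^ r from map_pow cH y r, hy,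
        show cy 1 = 1 from map_one cH]
      simp [chi]
    show chi D (cy y) (w⁻¹ (e.1 (w s))).val = chi D (cy y) s.val
    have h1 : chi D (cy y) (w⁻¹ (e.1 (w s))).val ^ q = chi D (cy y) s.val ^ q := by
      rw [← hwq, Equiv.Perm.inv_def, Equiv.apply_symm_apply, he y hy, hwq]
    refine mul_inv_eq_one.1 (eq_one_of_coprime hqr ?_ ?_)
    · rw [mul_pow, inv_pow, h1, mul_inv_cancel]
    · rw [mul_pow, inv_pow, hyr, hyr, inv_one, one_mul]
  -- the fixed group
  let A : Subgroup (Fin D.rank → Kˣ) :=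
    { carrier := {γ | γ ^ m = 1 ∧ star M γ = γ ^ q ∧ ∀ e ∈ St, star (Mz X.S T e.1) γ = γ}
      one_mem' := ⟨one_pow _, by rw [map_one, one_pow], fun e _ => map_one _⟩
      mul_mem' := fun {x z} hx hz => ⟨by rw [mul_pow, hx.1, hz.1, one_mul],
        by rw [map_mul, hx.2.1, hz.2.1, mul_pow], fun e he => by rw [map_mul, hx.2.2 e he, hz.2.2 e he]⟩
      inv_mem' := fun {x} hx => ⟨by rw [inv_pow, hx.1, inv_one],
        by rw [map_inv, hx.2.1, inv_pow], fun e he => by rw [map_inv, hx.2.2 e he]⟩ }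
  have : Fintype ↥St := Fintype.ofFinite _
  let avg : (Fin D.rank → Kˣ) → (Fin D.rank → Kˣ) := fun β => ∏ e : ↥St, star (Mz X.S T e.1.1) β
  have havgA : ∀ α : Fin D.rank → Kˣ, α ^ m = 1 → avg (twAvg M u0 m0 α) ∈ A := by
    intro α hα
    set β := twAvg M u0 m0 α with hβ
    have hβm : β ^ m = 1 := by
      rw [hβ, twAvg, ← Finset.prod_pow]
      exact Finset.prod_eq_one fun j _ => by rw [← pow_mul, mul_comm, pow_mul, ← map_pow, hα, map_one, one_pow]
    refine ⟨?_, ?_, fun e he => ?_⟩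
    · show (∏ e : ↥St, _) ^ m = 1
      rw [← Finset.prod_pow]
      exact Finset.prod_eq_one fun e _ => by rw [← map_pow, hβm, map_one]
    · show star M (∏ e : ↥St, _) = (∏ e : ↥St, _) ^ q
      rw [map_prod, ← Finset.prod_pow]
      let cj : ↥St → ↥St := fun e => ⟨_, hconjSt e.1 e.2⟩
      have hcj : Function.Bijective cj := Finite.injective_iff_bijective.1 fun e f h =>
        Subtype.ext (mul_left_cancel (mul_right_cancel (congrArg Subtype.val h :)))
      refine Fintype.prod_bijective cj hcj _ _ fun e => ?_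
      rw [← map_pow, ← star_twAvg hMm0 hqu hum0 hα, ← hβ, ← star_mul, ← star_mul]
      congr 2
      rw [hMdef, ← X.Mz_mul (e : ↥St).1.2, ← X.Mz_mul hw]
      congr 1
      simp [cj, mul_assoc]
    · show star (Mz X.S T e.1) (∏ f : ↥St, _) = ∏ f : ↥St, _
      rw [map_prod]
      refine Fintype.prod_equiv (Equiv.mulRight (⟨e, he⟩ : ↥St)) _ _ fun f => ?_
      rw [← star_mul, ← X.Mz_mul f.1.2]
      rfl
  let V : Subgroup (Fin D.rank → Kˣ) := (powMonoidHom r : ↥(P : Subgroup ↥(D.group F)) →* _).ker.map (X.al.comp cH)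
  have hVprop : ∀ x ∈ V, x ^ r = 1 ∧ star M x = x ^ q ∧ ∀ e ∈ St, star (Mz X.S T e.1) x = x := by
    rintro _ ⟨y, hy, rfl⟩
    refine ⟨by rw [← map_pow, show y ^ r = 1 from hy, map_one], funext fun j => ?_,
      fun e he => funext fun j => ?_⟩
    · show star M (X.al (cy y)) j = (X.al (cy y) ^ q) j
      rw [X.star_al, hwq]; rfl
    · show star (Mz X.S T e.1) (X.al (cy y)) j = X.al (cy y) j
      rw [X.star_al]; exact he y hy _
  -- roots trivial on V are trivial on A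
  have hroot : ∀ γ ∈ A, ∀ s < D.nroots,
      (∀ y, y ^ r = 1 → chi D (cy y) s = 1) → ∀ c : Fin D.rank → Kˣ, X.al c = γ → chi D c s = 1 := by
    intro γ hγ s hs hs1 c hc
    obtain ⟨w1, hw1, i, e1⟩ := X.exists_orbit s hs
    have hw2 : w1 * X.S.wp i * w1⁻¹ ∈ X.S.WG :=
      mul_mem (mul_mem hw1 (Subgroup.subset_closure ⟨i, rfl⟩)) (inv_mem hw1)
    have hmem : (⟨w1 * X.S.wp i * w1⁻¹, hw2⟩ : ↥X.S.WG) ∈ St := fun y hy z => by
      show chi D (cy y) ((w1 * X.S.wp i * w1⁻¹) z).val = _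
      exact refl_fix X hw1 e1 (hs1 y hy) z
    have hst : star (Mz X.S T (w1 * X.S.wp i * w1⁻¹)) γ = γ := hγ.2.2 ⟨_, hw2⟩ hmem
    have hsq : chi D c s ^ 2 = 1 := refl_sq X hw1 e1 hw2 (by rw [hc]; exact hst)
    have hm' : chi D c s ^ m = 1 := by
      rw [show chi D c s = chi D c (w1 (X.S.sp i)).val by rw [e1]]
      exact chi_pow_one X (by rw [hc]; exact hγ.1) _
    exact eq_one_of_coprime (Nat.Coprime.pow_left k ((Nat.coprime_primes hr.out Nat.prime_two).2 hr2)) hm' hsq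
  -- embedding of A in the rational group
  have hlift : ∀ γ : ↥A, ∃ c : Fin D.rank → Kˣ, c ^ m = 1 ∧ X.al c = γ.1 := fun γ => al_torsion X hT _ γ.2.1
  choose cA hcA hcAal using hlift
  have hcA_mul : ∀ x z, cA (x * z) = cA x * cA z := fun x z => by
    refine tG_torsion_inj hT (hcA _) (by rw [mul_pow, hcA, hcA, one_mul]) (chi_ext_tG X (X.chi_ext ?_))
    rw [map_mul, hcAal, hcAal, hcAal, Subgroup.coe_mul]
  let Φ : ↥A →* GL D.Idx K :=
    (MulAut.conj g).toMonoidHom.comp ((Ok.tG D K).comp (MonoidHom.mk' cA hcA_mul))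
  have hΦinj : Function.Injective Φ := fun x z hxz => by
    have h1 := tG_torsion_inj hT (hcA x) (hcA z) ((MulAut.conj g).injective hxz)
    refine Subtype.ext ?_
    rw [← hcAal, ← hcAal, h1]
  have hΦr : ∀ x : ↥A, Φ x ∈ (D.group F).map (ext D F K) := by
    intro x
    refine fixed_mem_pow X hσ hσF hfix hE (mul_mem (mul_mem hg (hdiag_le (X.S.tG_mem_diag _))) (inv_mem hg))
      ?_ hmE (by rw [← map_pow, show x ^ m = 1 from Subtype.ext x.2.1, map_one])
    show phiG σ D (g * Ok.tG D K (cA x) * g⁻¹) = g * Ok.tG D K (cA x) * g⁻¹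
    rw [map_mul, map_mul, map_inv, hσt]
    have hqchi : ∀ s : Fin D.nroots, chi D (cA x ^ q) s.val = chi D (cA x) s.val ^ q := fun s =>
      congrFun (X.al_pow (cA x) q) s.val
    have hker : ∀ s, s < D.nroots → (∀ y, y ^ r = 1 → chi D (cy y) s = 1) → chi D (cA x) s = 1 :=
      fun s hs h => hroot x.1 x.2 s hs h _ (hcAal x)
    have hu' : MulAut.conj (Ok.tG D K (cA x ^ q)) u = u := by
      obtain ⟨tt, htt, hto, -⟩ := fixed_U_of X (c' := cA x ^ q) (X.S.UPsi_le _ hu) (heach 1).1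
      refine hto fun s h1 h2 hne => ?_
      rw [hqchi ⟨s, h2⟩, hker s h2 fun y hy => ?_, one_pow]
      obtain ⟨tt', htt', -, hfrom⟩ := fixed_U_of X (c' := cy y) (X.S.UPsi_le _ hu) (heach y).1
      have hsame : tt' s = tt s := X.S.pw_inj (D.nroots - D.nroots / 2) (D.nroots / 2)
        (by have := X.S.hsum; omega) le_rfl _ _ (htt'.symm.trans htt) s h1 h2
      have h3 := hfrom s h1 h2 (hsame ▸ hne)
      rw [congrFun (X.al_pow (cy y) q) s] at h3
      refine eq_one_of_coprime hqr h3 ?_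
      rw [← congrFun (X.al_pow (cy y) r) s, ← show cy (y ^ r) = cy y ^ r from map_pow cH y r, hy,
        show cy 1 = 1 from map_one cH]
      simp [chi]
    have hv' : MulAut.conj (Ok.tG D K (cA x)) v = v := by
      obtain ⟨tt, htt, hto, -⟩ := fixed_U_of X (c' := cA x) hv (heach 1).2.1
      refine hto fun s h1 h2 hne => hker s h2 fun y _ => ?_
      obtain ⟨tt', htt', -, hfrom⟩ := fixed_U_of X (c' := cy y) hv (heach y).2.1
      have hsame : tt' s = tt s := X.S.pw_inj (D.nroots - D.nroots / 2) (D.nroots / 2)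
        (by have := X.S.hsum; omega) le_rfl _ _ (htt'.symm.trans htt) s h1 h2
      exact hfrom s h1 h2 (hsame ▸ hne)
    have hn' : n * Ok.tG D K (cA x ^ q) * n⁻¹ = Ok.tG D K (cA x) := by
      have h1 := X.S.norm_diag hn (X.S.tG_mem_diag (cA x ^ q))
      rw [X.S.ok.diagonalSubgroup_eq] at h1
      obtain ⟨b, hb'⟩ := h1
      rw [← hb']
      refine chi_ext_tG X fun s => ?_
      obtain ⟨z, rfl⟩ := w.surjective s
      rw [X.chi_of_conj hact hb'.symm z,
        X.chi_w (a := cA x ^ q) (b := cA x) hw (by rw [map_pow, hcAal]; exact x.2.2.1) z]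
    have hd' := X.S.diag_comm hd0' (X.S.tG_mem_diag (cA x))
    rw [MulAut.conj_apply] at hu' hv'
    calc phiG σ D g * Ok.tG D K (cA x ^ q) * (phiG σ D g)⁻¹
        = g * (h * Ok.tG D K (cA x ^ q) * h⁻¹) * g⁻¹ := by rw [hhdef]; group
      _ = g * (v * (d0 * (n * (u * Ok.tG D K (cA x ^ q) * u⁻¹) * n⁻¹) * d0⁻¹) * v⁻¹) * g⁻¹ := by rw [hhe]; group
      _ = g * (v * (d0 * (n * Ok.tG D K (cA x ^ q) * n⁻¹) * d0⁻¹) * v⁻¹) * g⁻¹ := by
          rw [show u * Ok.tG D K (cA x ^ q) * u⁻¹ = Ok.tG D K (cA x ^ q) by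
            rw [mul_inv_eq_iff_eq_mul]; exact (mul_inv_eq_iff_eq_mul.1 hu').symm]
      _ = g * Ok.tG D K (cA x) * g⁻¹ := by
          rw [hn', hd', mul_inv_cancel_right,
            show v * Ok.tG D K (cA x) * v⁻¹ = Ok.tG D K (cA x) by
              rw [mul_inv_eq_iff_eq_mul]; exact (mul_inv_eq_iff_eq_mul.1 hv').symm]
  -- counting
  let ψ : ↥(D.group F) →* GL D.Idx K := (ext D F K).comp (D.group F).subtype
  have hψinj : Function.Injective ψ := (ext_injective (D := D)).comp Subtype.val_injective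
  have hAle : Nat.card ↥A ≤ (r ^ k) ^ a := by
    choose y0 hy0G hy0e using hΦr
    let ι : ↥A →* ↥(D.group F) := MonoidHom.mk' (fun x => ⟨y0 x, hy0G x⟩) fun x z =>
      Subtype.ext (ext_injective (D := D) (K := K) (by
        show ext D F K (y0 (x * z)) = ext D F K (y0 x * y0 z)
        rw [map_mul, hy0e, hy0e, hy0e, map_mul]))
    have hιinj : Function.Injective ι := fun x z h => hΦinj (by
      rw [← hy0e x, ← hy0e z, show y0 x = y0 z from congrArg Subtype.val h])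
    have hAp : IsPGroup r ↥A := fun x => ⟨k, Subtype.ext x.2.1⟩
    obtain ⟨Q, hQ⟩ := (hAp.to_subgroup ⊤ |>.map ι).exists_le_sylow
    calc Nat.card ↥A = Nat.card ↥((⊤ : Subgroup ↥A).map ι) := by
          rw [Subgroup.card_map_of_injective hιinj, Subgroup.card_top]
      _ ≤ Nat.card ↥(Q : Subgroup ↥(D.group F)) := Subgroup.card_le_of_le hQ
      _ = (r ^ k) ^ a := by rw [← hP]; exact Nat.card_congr (Q.equiv P).toEquiv
  have hVA : V ≤ A := by
    intro x hx
    obtain ⟨h1, h2, h3⟩ := hVprop x hx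
    exact ⟨orderOf_dvd_iff_pow_eq_one.1 ((orderOf_dvd_of_pow_eq_one h1).trans hrm), h2, h3⟩
  have hpow : V.subgroupOf A ≤ (powMonoidHom (r ^ (k - 1)) : ↥A →* ↥A).range := by
    rintro ⟨x, hxA⟩ hx
    rw [Subgroup.mem_subgroupOf] at hx
    obtain ⟨hxr, hxM, hxS⟩ := hVprop x hx
    have hNd : m ∣ Nat.card Kˣ := by rw [Nat.card_units]; exact hkQ
    obtain ⟨ζ, hζ, hlog⟩ := exists_log (ι := Fin D.rank) (H := Kˣ) hNd
    obtain ⟨e, he⟩ := exists_inv_modEq (E := m0 * Fintype.card ↥St) (m := r) (by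
      refine Nat.Coprime.symm (hr.out.coprime_iff_not_dvd.2 fun h => ?_)
      rcases hr.out.dvd_mul.1 h with h | h
      · rcases hr.out.dvd_mul.1 h with h | h
        exacts [hrW h, hrd h]
      · exact hrW (h.trans (Nat.card_eq_fintype_card (α := ↥St) ▸ Subgroup.card_subgroup_dvd_card St)))
    obtain ⟨j, hj⟩ := hlog (x ^ e) fun i => by
      have := congrFun hxr i
      rw [Pi.pow_apply] at this ⊢
      rw [← pow_mul, mul_comm, pow_mul]
      rw [show x i ^ m = 1 from orderOf_dvd_iff_pow_eq_one.1 ((orderOf_dvd_of_pow_eq_one this).trans hrm),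
        one_pow]
    have hroot' : ∀ i, ∃ b : Kˣ, b ^ m = 1 ∧ b ^ r ^ (k - 1) = (x ^ e) i := by
      intro i
      have hjr : r ^ (k - 1) ∣ j i := by
        have h1 : ζ ^ (j i * r) = 1 := by
          rw [pow_mul, ← hj, ← Pi.pow_apply, ← pow_mul, mul_comm, pow_mul, hxr, one_pow]
          rfl
        have h2 := orderOf_dvd_of_pow_eq_one h1
        rw [hζ, hm, show r ^ k = r ^ (k - 1) * r by rw [← pow_succ, Nat.sub_add_cancel hk]] at h2
        exact (Nat.mul_dvd_mul_iff_right hr.out.pos).1 h2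
      obtain ⟨l, hl⟩ := hjr
      exact ⟨ζ ^ l, by rw [← pow_mul, mul_comm, pow_mul, ← hζ, pow_orderOf_eq_one, one_pow],
        by rw [← pow_mul, hj, hl, mul_comm]⟩
    choose α hαm hαe using hroot'
    have hαm' : α ^ m = 1 := funext hαm
    have hαe' : α ^ r ^ (k - 1) = x ^ e := funext hαe
    refine ⟨⟨_, havgA α hαm'⟩, Subtype.ext ?_⟩
    show avg (twAvg M u0 m0 α) ^ r ^ (k - 1) = x
    have h1 : twAvg M u0 m0 α ^ r ^ (k - 1) = (x ^ e) ^ m0 := twAvg_pow (hqu.of_dvd hrm) hαe'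
      (by rw [← pow_mul, mul_comm, pow_mul, hxr, one_pow]) (by rw [map_pow, hxM, ← pow_mul, ← pow_mul, mul_comm])
    show (∏ f : ↥St, _) ^ _ = _
    rw [← Finset.prod_pow, Finset.prod_eq_pow_card (b := (x ^ e) ^ m0) (fun f _ => by
      rw [← map_pow, h1, map_pow, map_pow, hxS f.1 f.2]), Finset.card_univ, ← pow_mul, ← pow_mul]
    conv_rhs => rw [← pow_one x]
    refine pow_eq_pow_of_modEq ?_ hxr
    rw [show e * (m0 * Fintype.card ↥St) = m0 * Fintype.card ↥St * e by ring]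
    exact he
  have hcount := card_pow_le (r := r) (V.subgroupOf A) (fun x hx => Subtype.ext (hVprop x.1 hx).1) (k - 1) hpow
  rw [Nat.sub_add_cancel hk, Nat.card_congr (Subgroup.subgroupOfEquivOfLe hVA).toEquiv] at hcount
  have hVcard : Nat.card ↥V = Nat.card ↥(powMonoidHom r : ↥(P : Subgroup ↥(D.group F)) →* _).ker := by
    refine Subgroup.card_map_of_injective fun y z hyz => hcHinj ?_
    exact tG_torsion_inj hT (hcy y) (hcy z) (chi_ext_tG X (X.chi_ext hyz))
  rw [hVcard] at hcount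
  refine (Nat.pow_le_pow_iff_left hk.ne').1 (hcount.trans (hAle.trans (le_of_eq ?_)))
  rw [← pow_mul, ← pow_mul, mul_comm]

end Cfsg.Lib.Chev.Springer
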