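import Cfsg.Agent.Chev.Springer.Data
import Cfsg.Agent.Chev.Springer.Sylow
import Cfsg.Agent.Chev.TorusInj

/-! The homocyclic Sylow subgroups: arithmetic and the seven root systems. -/

set_option autoImplicit false

open Cfsg.Lie

namespace Cfsg.Lib.Chev.Springer

open Polynomial

variable {D : ChevalleyDatum} {C : Cert} {T : List (List ℤ)}

theorem pow_okInv {F : Type*} [Field F] (S : Struct D C) {M : List (List ℤ)} {d : ℕ} (hM : okInv D M d = true)
    (c : Fin D.rank → Fˣ) (hc : c ∈ (Ok.tG D F).ker) : c ^ d = 1 := by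
  classical
  rw [MonoidHom.mem_ker] at hc
  have hs : ∀ s : Fin D.rank, (∏ j, c j ^ D.cartan j (D.simple s)) = 1 := fun s => by
    have hlt : D.simple s < D.nroots := S.ok.sr_eq s.isLt ▸ S.ok.sr_lt s.isLt
    have h1 := congrArg (fun g : GL D.Idx F => (g : Matrix D.Idx D.Idx F) (Sum.inr ⟨_, hlt⟩) (Sum.inr ⟨_, hlt⟩)) hc
    simp only [Ok.tG_val, Matrix.diagonal_apply_eq, Sum.elim_inr, Units.val_one, Matrix.one_apply_eq] at h1
    exact Units.ext h1
  simp only [okInv, List.all_eq_true, List.mem_range, decide_eq_true_eq] at hM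
  funext i
  have h1 : ∏ s : Fin D.rank, (∏ j, c j ^ D.cartan j (D.simple s)) ^ (M.getD i []).getD s 0 = 1 := by
    simp [hs]
  simp only [← Finset.prod_zpow, ← _root_.zpow_mul] at h1
  rw [Finset.prod_comm] at h1
  simp only [prod_zpow_sum] at h1
  have hcol : ∀ j : Fin D.rank, (∑ s : Fin D.rank, D.cartan j (D.simple s) * (M.getD i []).getD s 0) =
      if j = i then (d : ℤ) else 0 := fun j => by
    have h := hM i i.isLt j j.isLt
    rw [← List.map_coe_finRange_eq_range, List.map_map, ← List.ofFn_eq_map, List.sum_ofFn] at h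
    simp only [Fin.val_inj, Function.comp_apply] at h
    rw [← h]
    exact Finset.sum_congr rfl fun s _ => mul_comm _ _
  simp only [hcol] at h1
  rw [Finset.prod_eq_single i (fun b _ hb => by simp [hb]) (by simp), if_pos rfl, _root_.zpow_natCast] at h1
  exact h1

section Valuation

variable {q r : ℕ} [hr : Fact r.Prime]

theorem val_pow_sub_one (hq : 1 < q) (hrq : ¬ r ∣ q) {e : ℕ} (he : 0 < e) (hre : ¬ r ∣ e) :
    padicValNat r (q ^ e - 1) =
      if orderOf (q : ZMod r) ∣ e then
        padicValNat r ((cyclotomic (orderOf (q : ZMod r)) ℤ).eval (q : ℤ)).natAbs else 0 := by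
  set d := orderOf (q : ZMod r) with hd
  have hq0 : (q : ZMod r) ≠ 0 := fun h => hrq ((ZMod.natCast_eq_zero_iff _ _).1 h)
  have hq1 : ∀ n : ℕ, 1 ≤ q ^ n := fun n => Nat.one_le_pow _ _ (by omega)
  have hdvd : ∀ n : ℕ, r ∣ q ^ n - 1 ↔ d ∣ n := fun n => by
    rw [← ZMod.natCast_eq_zero_iff, Nat.cast_sub (hq1 n), Nat.cast_pow, Nat.cast_one, sub_eq_zero,
      ← orderOf_dvd_iff_pow_eq_one]
  by_cases hde : d ∣ e
  swap
  · rw [if_neg hde]
    exact padicValNat.eq_zero_of_not_dvd fun h => hde ((hdvd e).1 h)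
  rw [if_pos hde]
  obtain ⟨t, rfl⟩ := hde
  have hd0 : 0 < d := Nat.pos_of_mul_pos_right he
  have hrd : ¬ r ∣ d := fun h => hre (dvd_mul_of_dvd_left h t)
  -- split off the geometric sum
  set s := ∑ i ∈ Finset.range t, (q ^ d) ^ i with hs
  have hprod : q ^ (d * t) - 1 = (q ^ d - 1) * s := by
    rw [hs, pow_mul, mul_comm]
    apply Nat.cast_injective (R := ℤ)
    push_cast [Nat.cast_sub (hq1 d), Nat.cast_sub (show 1 ≤ (q ^ d) ^ t from Nat.one_le_pow _ _ (hq1 d))]
    exact (geom_sum_mul _ t).symm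
  have hsr : ¬ r ∣ s := by
    rw [← ZMod.natCast_eq_zero_iff, hs, Nat.cast_sum]
    simp only [Nat.cast_pow, show (q : ZMod r) ^ d = 1 from pow_orderOf_eq_one _, one_pow, Finset.sum_const,
      Finset.card_range, nsmul_eq_mul, mul_one]
    rw [ZMod.natCast_eq_zero_iff]
    exact fun h => hre (dvd_mul_of_dvd_right h d)
  have hbase : 0 < q ^ d - 1 := by
    have : q ^ 1 ≤ q ^ d := Nat.pow_le_pow_right (by omega) hd0
    simp at this; omega
  rw [hprod, padicValNat.mul hbase.ne' (fun h => hsr (by rw [h]; exact dvd_zero r)), padicValNat.eq_zero_of_not_dvd hsr,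
    add_zero]
  -- the cyclotomic factor carries the whole valuation
  obtain ⟨g, hg⟩ := cyclotomic.dvd_X_pow_sub_one d ℤ
  have hgq : ¬ (r : ℤ) ∣ g.eval (q : ℤ) := by
    intro h0
    have hsep : (X ^ d - 1 : (ZMod r)[X]).Separable :=
      X_pow_sub_one_separable_iff.2 fun h => hrd ((ZMod.natCast_eq_zero_iff d r).1 h)
    have h1 := congrArg (Polynomial.map (Int.castRingHom (ZMod r))) hg
    rw [Polynomial.map_sub, Polynomial.map_pow, map_X, Polynomial.map_one, Polynomial.map_mul, map_cyclotomic] at h1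
    have a1 : X - C (q : ZMod r) ∣ cyclotomic d (ZMod r) :=
      dvd_iff_isRoot.2 ((IsPrimitiveRoot.orderOf (q : ZMod r)).isRoot_cyclotomic hd0)
    have a2 : X - C (q : ZMod r) ∣ g.map (Int.castRingHom (ZMod r)) := by
      rw [dvd_iff_isRoot, IsRoot, ← Int.cast_natCast q, eval_intCast_map, Int.cast_id, eq_intCast,
        ZMod.intCast_zmod_eq_zero_iff_dvd]
      exact h0
    exact not_isUnit_X_sub_C (q : ZMod r) (hsep.squarefree _ (h1 ▸ mul_dvd_mul a1 a2))
  have he1 : ((q ^ d - 1 : ℕ) : ℤ) = (cyclotomic d ℤ).eval (q : ℤ) * g.eval (q : ℤ) := by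
    rw [← eval_mul, ← hg, Nat.cast_sub (hq1 d)]
    simp
  have he2 := congrArg Int.natAbs he1
  rw [Int.natAbs_natCast, Int.natAbs_mul] at he2
  rw [he2, padicValNat.mul, padicValNat.eq_zero_of_not_dvd (n := (g.eval (q : ℤ)).natAbs)
    (fun h => hgq (Int.natCast_dvd.2 h)), add_zero]
  · intro h; rw [h, zero_mul] at he2; omega
  · intro h; rw [h, mul_zero] at he2; omega

end Valuation

/-- Sylow subgroups away from the characteristic and the Weyl group are homocyclic. -/
theorem sylow_data {F : Type*} [Field F] [Fintype F] (X : Dat D C T) {M : List (List ℤ)} {E : ℕ}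
    (hM : okInv D M E = true) {Ls : List Lev} {ds : List ℕ} (hP : okPoincare C Ls ds = true)
    (hW : Nat.card ↥X.S.WG = ds.prod) (hds : ∀ x ∈ ds, 0 < x) (h2 : 2 ∣ ds.prod) (hEW : E ∣ ds.prod)
    {e0 : ℕ} (he0 : ∀ r : ℕ, r.Prime → r ∣ e0 → r ∣ ds.prod)
    (hH : e0 * Nat.card ↥(D.diagonalSubgroup F) = (Fintype.card F - 1) ^ D.rank)
    {r : ℕ} [hr : Fact r.Prime] (hrq : ¬ r ∣ Fintype.card F) (hrW : ¬ r ∣ ds.prod)
    (P : Sylow r ↥(D.group F)) :
    Nonempty (↥(P : Subgroup ↥(D.group F)) ≃*
      (Fin (ds.filter (fun e => orderOf (Fintype.card F : ZMod r) ∣ e)).length →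
        Multiplicative (ZMod (r ^ padicValNat r
          ((cyclotomic (orderOf (Fintype.card F : ZMod r)) ℤ).eval (Fintype.card F : ℤ)).natAbs)))) := by
  classical
  set q := Fintype.card F with hq
  have hq1 : 1 < q := Fintype.one_lt_card
  set d := orderOf (q : ZMod r) with hd
  set k := padicValNat r ((cyclotomic d ℤ).eval (q : ℤ)).natAbs with hk
  have hq0 : (q : ZMod r) ≠ 0 := fun h => hrq ((ZMod.natCast_eq_zero_iff _ _).1 h)
  have hd0 : 0 < d := (isUnit_iff_ne_zero.2 hq0).isOfFinOrder.orderOf_pos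
  have hrd : ¬ r ∣ d := fun h => by
    have h1 := ZMod.orderOf_dvd_card_sub_one hq0
    have h2' := Nat.le_of_dvd (by have := hr.out.two_le; omega) (h.trans h1)
    have := hr.out.two_le
    omega
  have hval := val_pow_sub_one (r := r) hq1 hrq hd0 hrd
  rw [if_pos dvd_rfl] at hval
  have hpos : 0 < q ^ d - 1 := by
    have : q ^ 1 ≤ q ^ d := Nat.pow_le_pow_right (by omega) hd0
    simp at this; omega
  have hk0 : 0 < k := by
    rw [hk, ← hval]
    refine one_le_padicValNat_of_dvd hpos.ne' ?_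
    rw [← ZMod.natCast_eq_zero_iff, Nat.cast_sub (Nat.one_le_pow _ _ (by omega)), Nat.cast_pow, Nat.cast_one,
      pow_orderOf_eq_one, sub_self]
  obtain ⟨p, hc⟩ := CharP.exists F
  have : Fact p.Prime := ⟨CharP.char_is_prime F p⟩
  have : NeZero d := ⟨hd0.ne'⟩
  let K := FiniteField.Extension F p d
  let σ : K →+* K := (FiniteField.Extension.frob F p d).toRingEquiv.toRingHom
  have hσ : ∀ x, σ x = x ^ Nat.card F := fun x => FiniteField.Extension.frob_apply F p d
  have hfix : ∀ x, σ x = x → x ∈ Set.range (algebraMap F K) := by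
    intro x hx
    refine (IsGalois.mem_range_algebraMap_iff_fixed x).2 fun f => ?_
    obtain ⟨i, -, rfl⟩ := FiniteField.Extension.exists_frob_pow_eq F p d f
    induction i with
    | zero => rfl
    | succ i ih => rw [pow_succ, AlgEquiv.mul_apply]; rw [show (FiniteField.Extension.frob F p d) x = x from hx, ih]
  have hK : Nat.card K - 1 = q ^ d - 1 := by
    rw [FiniteField.natCard_extension, Nat.card_eq_fintype_card]
  refine sylow_homocyclic (K := K) X (fun c hc => pow_okInv X.S hM c hc) σ hσ hfix hd0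
    (FiniteField.natCard_extension F p d) ?_ (fun h => hrW (h.trans hEW)) hrd (hW.symm ▸ hrW) hk0 ?_ ?_ P ?_
  · rintro rfl; exact hrW h2
  · rw [hK, hk, ← hval]; exact pow_padicValNat_dvd
  · rw [hK, hk, ← hval]; exact pow_succ_padicValNat_not_dvd hpos.ne'
  · have h := X.S.order_formula X.hN hP hq.symm hH
    have hne0 : e0 ≠ 0 := fun h0 => by
      rw [h0, zero_mul] at hH
      exact absurd hH.symm (pow_ne_zero _ (by omega))
    have hfac : ∀ x ∈ ds, q ^ x - 1 ≠ 0 := fun x hx => by
      have : q ^ 1 ≤ q ^ x := Nat.pow_le_pow_right (by omega) (hds x hx)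
      simp at this; omega
    have hvp : ∀ L : List ℕ, (∀ x ∈ L, x ∈ ds) → padicValNat r (L.map fun x => q ^ x - 1).prod =
        k * (L.filter (fun e => d ∣ e)).length := by
      intro L
      induction L with
      | nil => intro _; simp
      | cons x L ih =>
        intro hL
        have hx := hL x List.mem_cons_self
        rw [List.map_cons, List.prod_cons, padicValNat.mul (hfac x hx) (List.prod_ne_zero (by
          intro h0
          obtain ⟨y, hy, e⟩ := List.mem_map.1 h0
          exact hfac y (hL y (List.mem_cons_of_mem _ hy)) e)), ih (fun y hy => hL y (List.mem_cons_of_mem _ hy)),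
          val_pow_sub_one (r := r) hq1 hrq (hds x hx) (fun h => hrW (h.trans (List.dvd_prod hx))),
          List.filter_cons]
        by_cases hdx : d ∣ x
        · simp only [← hd, hdx, if_true, decide_true, List.length_cons, ← hk]; ring
        · simp [← hd, hdx]
    have hv := congrArg (padicValNat r) h
    rw [padicValNat.mul hne0 Nat.card_pos.ne', padicValNat.eq_zero_of_not_dvd (fun h => hrW (he0 r hr.out h)),
      zero_add, padicValNat.mul (pow_ne_zero _ (by omega)) (List.prod_ne_zero (by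
        intro h0
        obtain ⟨y, hy, e⟩ := List.mem_map.1 h0
        exact hfac y hy e)),
      padicValNat.eq_zero_of_not_dvd (fun h => hrq (hr.out.dvd_of_dvd_pow h)), zero_add, hvp ds fun x hx => hx] at hv
    rw [P.card_eq_multiplicity, Nat.factorization_def _ hr.out, hv, ← pow_mul]

end Cfsg.Lib.Chev.Springer
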