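import Cfsg.Agent.Chev.Springer.Star
import Cfsg.Agent.Chev.Singer.Cent
import Cfsg.Agent.Chev.Orders
import Cfsg.Agent.Chev.FixedPoints
import Cfsg.Agent.Steinberg.Linear

/-! The Weyl group as integer matrices, and conjugation between diagonal elements. -/

set_option autoImplicit false

open Cfsg.Lie Cfsg.Lib.Steinberg

namespace Cfsg.Lib.Chev.Springer

open Matrix

/-- The data needed from a root system. -/
structure Dat (D : ChevalleyDatum) (C : Cert) (T : List (List ℤ)) : Prop where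
  S : Struct D C
  hN : okNeg D = true
  hT : okHt D T = true
  hl : okLin D C T = true
  hcart : ∀ r < D.nroots, ∀ i < D.rank,
    D.cartan i r = ((List.range D.rank).map fun j => htAt T r j * D.cartan i (D.simple j)).sum
  hunit : ∀ r < D.nroots, ∀ j < D.rank, (∀ k < D.rank, htAt T r k = if j = k then 1 else 0) → r = C.sr j

variable {D : ChevalleyDatum} {C : Cert} {T : List (List ℤ)}

/-- The integer matrix of a permutation of the roots. -/
noncomputable def Mz (S : Struct D C) (T : List (List ℤ)) (w : Equiv.Perm (Fin D.nroots)) :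
    Matrix (Fin D.rank) (Fin D.rank) ℤ :=
  Matrix.of fun j k => htAt T (w (S.sp j)).val k

namespace Dat

variable (X : Dat D C T)
include X

theorem ht_apply {w : Equiv.Perm (Fin D.nroots)} (hw : w ∈ X.S.WG) (r : Fin D.nroots) (k : Fin D.rank) :
    htAt T (w r).val k = ∑ j : Fin D.rank, htAt T r.val j * Mz X.S T w j k := by
  obtain ⟨L, rfl⟩ := X.S.exists_wpL hw
  exact ht_wpL X.S X.hT X.hl L r k k.isLt

theorem Mz_mul {w w' : Equiv.Perm (Fin D.nroots)} (hw : w ∈ X.S.WG) :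
    Mz X.S T (w * w') = Mz X.S T w' * Mz X.S T w := by
  ext j k
  rw [Matrix.mul_apply]
  exact X.ht_apply hw (w' (X.S.sp j)) k

theorem ht_sp (j k : Fin D.rank) : htAt T (X.S.sp j).val k = if j.val = k.val then 1 else 0 := by
  simp only [Struct.sp, X.S.ok.sr_eq j.isLt, ht_simple X.hT j.isLt k.isLt]

theorem Mz_one : Mz X.S T 1 = 1 := by
  ext j k
  rw [Mz, Matrix.of_apply, Equiv.Perm.one_apply, X.ht_sp, Matrix.one_apply]
  simp [Fin.val_inj]

theorem eq_one_of_Mz {w : Equiv.Perm (Fin D.nroots)} (hw : w ∈ X.S.WG) (h : Mz X.S T w = 1) : w = 1 := by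
  refine X.S.ext_simple hw (one_mem _) fun j => Fin.ext ?_
  rw [Equiv.Perm.one_apply]
  refine X.hunit _ (Fin.isLt _) _ j.isLt fun k hk => ?_
  have := Matrix.ext_iff.2 h j ⟨k, hk⟩
  simp only [Mz, Matrix.of_apply, Matrix.one_apply, Fin.ext_iff] at this
  exact this

/-- The representation of the Weyl group. -/
noncomputable def rep : ↥X.S.WG →* Matrix (Fin D.rank) (Fin D.rank) ℤ where
  toFun g := Mz X.S T (g⁻¹ : ↥X.S.WG).1
  map_one' := by rw [inv_one]; exact X.Mz_one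
  map_mul' a b := by rw [_root_.mul_inv_rev]; exact X.Mz_mul (b⁻¹).2

theorem Mz_pow {w : Equiv.Perm (Fin D.nroots)} (hw : w ∈ X.S.WG) (m : ℕ) : Mz X.S T (w ^ m) = Mz X.S T w ^ m := by
  induction m with
  | zero => simpa using X.Mz_one
  | succ m ih => rw [pow_succ, X.Mz_mul (pow_mem hw m), ih, pow_succ']

theorem pow_card_eq_one {w : Equiv.Perm (Fin D.nroots)} (hw : w ∈ X.S.WG) :
    Mz X.S T w ^ Nat.card ↥X.S.WG = 1 := by
  rw [← X.Mz_pow hw]
  have h : (⟨w, hw⟩ : ↥X.S.WG) ^ Nat.card ↥X.S.WG = 1 := pow_card_eq_one'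
  rw [show w ^ Nat.card ↥X.S.WG = 1 from congrArg Subtype.val h, X.Mz_one]

theorem exists_orbit : ∀ r < D.nroots, ∃ w ∈ X.S.WG, ∃ i : Fin D.rank, (w (X.S.sp i)).val = r := by
  refine X.S.ok.root_induction (fun i hi => ⟨⟨1, one_mem _, ⟨i, hi⟩, rfl⟩, ⟨X.S.wp ⟨i, hi⟩,
    Subgroup.subset_closure ⟨_, rfl⟩, ⟨i, hi⟩, ?_⟩⟩) fun i r hi hr ⟨w, hw, j, e⟩ =>
    ⟨X.S.wp ⟨i, hi⟩ * w, mul_mem (Subgroup.subset_closure ⟨_, rfl⟩) hw, j, ?_⟩
  · rw [Struct.wp_val]
    exact (X.S.ok.refl_simple hi).1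
  · rw [Equiv.Perm.mul_apply, Struct.wp_val, e]
    exact X.S.ok.w_w hi hr

section Field

variable {K : Type*} [Field K]

theorem chi_root (c : Fin D.rank → Kˣ) (r : Fin D.nroots) :
    chi D c r.val = ∏ j : Fin D.rank, chi D c (X.S.sp j).val ^ htAt T r.val j := by
  simp only [chi, ← Finset.prod_zpow, ← _root_.zpow_mul]
  rw [Finset.prod_comm]
  refine Finset.prod_congr rfl fun i _ => ?_
  rw [prod_zpow_sum, X.hcart _ r.isLt _ i.isLt, ← List.map_coe_finRange_eq_range, List.map_map,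
    ← List.ofFn_eq_map, List.sum_ofFn]
  congr 1
  refine Finset.sum_congr rfl fun j _ => ?_
  simp only [Function.comp_apply, Struct.sp, X.S.ok.sr_eq j.isLt]
  ring

/-- The values of the fundamental roots. -/
noncomputable def al : (Fin D.rank → Kˣ) →* (Fin D.rank → Kˣ) where
  toFun c j := chi D c (X.S.sp j).val
  map_one' := by funext j; simp [chi]
  map_mul' a b := by funext j; simp [chi, mul_zpow, Finset.prod_mul_distrib]

theorem star_al {w : Equiv.Perm (Fin D.nroots)} (c : Fin D.rank → Kˣ) (j : Fin D.rank) :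
    star (Mz X.S T w) (X.al c) j = chi D c (w (X.S.sp j)).val :=
  (X.chi_root c _).symm

theorem chi_ext {a b : Fin D.rank → Kˣ} (h : X.al a = X.al b) (r : Fin D.nroots) : chi D a r.val = chi D b r.val := by
  rw [X.chi_root, X.chi_root]
  exact Finset.prod_congr rfl fun j _ => by rw [show chi D a (X.S.sp j).val = chi D b (X.S.sp j).val from congrFun h j]

theorem chi_w {a : Fin D.rank → Kˣ} {b : Fin D.rank → Kˣ} {w : Equiv.Perm (Fin D.nroots)} (hw : w ∈ X.S.WG)
    (h : star (Mz X.S T w) (X.al b) = X.al a) (r : Fin D.nroots) : chi D b (w r).val = chi D a r.val := by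
  rw [X.chi_root, X.chi_root]
  simp only [X.ht_apply hw, ← prod_zpow_sum]
  rw [Finset.prod_comm]
  refine Finset.prod_congr rfl fun j _ => ?_
  have hj : (∏ k : Fin D.rank, chi D b (X.S.sp k).val ^ Mz X.S T w j k) = chi D a (X.S.sp j).val := congrFun h j
  rw [← hj, ← Finset.prod_zpow]
  exact Finset.prod_congr rfl fun k _ => by rw [← _root_.zpow_mul, mul_comm]

theorem al_injective (hker : (Ok.tG D K).ker = ⊥) : Function.Injective (X.al (K := K)) := by
  refine (injective_iff_map_eq_one _).2 fun c hc => ?_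
  have h : c ∈ (Ok.tG D K).ker := by
    rw [MonoidHom.mem_ker]
    refine Units.ext ?_
    rw [Ok.tG_val, Units.val_one, ← Matrix.diagonal_one]
    congr 1
    funext x
    rcases x with a | s
    · rfl
    · have h1 := X.chi_ext (a := c) (b := 1) (hc.trans (map_one X.al).symm) s
      have h2 : chi D (1 : Fin D.rank → Kˣ) s.val = 1 := by simp [chi]
      have h3 := congrArg Units.val (h1.trans h2)
      simpa [chi] using h3
  rwa [hker, Subgroup.mem_bot] at h

theorem al_bijective [Finite K] (hker : (Ok.tG D K).ker = ⊥) : Function.Bijective (X.al (K := K)) :=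
  ⟨X.al_injective hker, Finite.injective_iff_surjective.1 (X.al_injective hker)⟩

theorem al_pow (c : Fin D.rank → Kˣ) (n : ℕ) : chi D (c ^ n) = fun r => chi D c r ^ n := by
  funext r
  simp only [chi, Pi.pow_apply, ← Finset.prod_pow]
  exact Finset.prod_congr rfl fun i _ => by
    rw [← _root_.zpow_natCast, ← _root_.zpow_natCast, ← _root_.zpow_mul, ← _root_.zpow_mul, mul_comm]

theorem chi_of_conj {g : GL D.Idx K} {w : Equiv.Perm (Fin D.nroots)} (hact : Act X.S.ok g w)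
    {a b : Fin D.rank → Kˣ} (h : g * Ok.tG D K a * g⁻¹ = Ok.tG D K b) (r : Fin D.nroots) :
    chi D b (w r).val = chi D a r.val := by
  obtain ⟨-, k, hk, hA⟩ := hact r
  have e3 : X.S.ok.xG (w r).val (k * (chi D a r.val : K)) = X.S.ok.xG (w r).val ((chi D b (w r).val : K) * k) := by
    calc X.S.ok.xG (w r).val (k * (chi D a r.val : K))
        = g * (Ok.tG D K a * X.S.ok.xG r.val (1 : K) * (Ok.tG D K a)⁻¹) * g⁻¹ := by
          rw [X.S.tG_conj_xG r.isLt, mul_one, ← (hA _).1]; rfl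
      _ = (g * Ok.tG D K a * g⁻¹) * (g * X.S.ok.xG r.val (1 : K) * g⁻¹) * (g * Ok.tG D K a * g⁻¹)⁻¹ := by group
      _ = _ := by rw [h, (hA _).1, mul_one, X.S.tG_conj_xG (Fin.isLt _)]; rfl
  have h4 := X.S.xG_left_inj (Fin.isLt _) e3
  exact Units.ext (mul_left_cancel₀ hk (by linear_combination -h4))

/-- A group element conjugating one diagonal element into another induces a Weyl group element. -/
theorem transfer {g : GL D.Idx K} (hg : g ∈ D.group K) {a b : Fin D.rank → Kˣ}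
    (h : g * Ok.tG D K a = Ok.tG D K b * g) :
    ∃ w ∈ X.S.WG, (∀ r : Fin D.nroots, chi D b (w r).val = chi D a r.val) ∧
      ((∀ r < D.nroots, chi D a r ≠ 1) → (∀ r < D.nroots, chi D b r ≠ 1) →
        g ∈ D.monomialSubgroup K ∧ Act X.S.ok g w) := by
  obtain ⟨b0, hb, n, hn, L, hact, u, hu, rfl⟩ := X.S.normal_form X.hN hg
  set s := Ok.tG D K a
  set t := Ok.tG D K b
  have hs : s ∈ D.diagonalSubgroup K := X.S.tG_mem_diag a
  have ht : t ∈ D.diagonalSubgroup K := X.S.tG_mem_diag b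
  have hsu : s * u * s⁻¹ ∈ X.S.UPsi K (Struct.Neg D (X.S.wpL L)) := by
    have hle : X.S.UPsi K (Struct.Neg D (X.S.wpL L)) ≤
        (X.S.UPsi K (Struct.Neg D (X.S.wpL L))).comap (MulAut.conj s).toMonoidHom := by
      refine (Subgroup.closure_le _).2 ?_
      rintro y ⟨r, x, p1, p2, rfl⟩
      show s * X.S.ok.xG r.val x * s⁻¹ ∈ X.S.UPsi K (Struct.Neg D (X.S.wpL L))
      rw [X.S.tG_conj_xG r.isLt]
      exact Subgroup.subset_closure ⟨r, _, p1, p2, rfl⟩
    exact hle hu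
  have hsn : n * s⁻¹ * n⁻¹ ∈ D.diagonalSubgroup K := X.S.norm_diag hn (inv_mem hs)
  have hb' : t * b0 * (n * s⁻¹ * n⁻¹) ∈ D.borelSubgroup K :=
    mul_mem (mul_mem (Subgroup.mem_sup_right ht) hb) (Subgroup.mem_sup_right hsn)
  have e : t * b0 * (n * s⁻¹ * n⁻¹) * n * (s * u * s⁻¹) = b0 * n * u := by
    calc t * b0 * (n * s⁻¹ * n⁻¹) * n * (s * u * s⁻¹) = t * (b0 * n * u) * s⁻¹ := by group
      _ = b0 * n * u := by rw [← h]; group
  obtain ⟨eb, eu⟩ := X.S.normal_form_unique X.hN hb' hb hact hsu hu e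
  obtain ⟨v, hv, d, hd, rfl⟩ := X.S.borel_decomp hb
  have htv : t * v * t⁻¹ ∈ D.posUnipotent K :=
    (Subgroup.mem_normalizer_iff.1 (X.S.diag_normalises_U ht) v).1 hv
  have e2 : t * v * t⁻¹ = v * (d * (t * d * (n * s⁻¹ * n⁻¹))⁻¹) := by
    calc t * v * t⁻¹ = (t * (v * d) * (n * s⁻¹ * n⁻¹)) * (t * d * (n * s⁻¹ * n⁻¹))⁻¹ := by group
      _ = _ := by rw [eb, mul_assoc]
  have hdd : d * (t * d * (n * s⁻¹ * n⁻¹))⁻¹ ∈ D.diagonalSubgroup K :=
    mul_mem hd (inv_mem (mul_mem (mul_mem ht hd) hsn))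
  have h0 : d * (t * d * (n * s⁻¹ * n⁻¹))⁻¹ ∈ D.posUnipotent K ⊓ D.diagonalSubgroup K := by
    refine Subgroup.mem_inf.2 ⟨?_, hdd⟩
    rw [show d * (t * d * (n * s⁻¹ * n⁻¹))⁻¹ = v⁻¹ * (v * (d * (t * d * (n * s⁻¹ * n⁻¹))⁻¹)) by group, ← e2]
    exact mul_mem (inv_mem hv) htv
  rw [X.S.U_inf_H, Subgroup.mem_bot] at h0
  rw [h0, mul_one] at e2
  have hnst : n * s * n⁻¹ = t := by
    rw [mul_inv_eq_one, X.S.diag_comm ht hd, mul_assoc] at h0
    have h3 : t * (n * s⁻¹ * n⁻¹) = 1 := mul_eq_left.1 h0.symm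
    have h6 := congrArg (·⁻¹) (eq_inv_of_mul_eq_one_right h3)
    simpa [mul_assoc] using h6
  refine ⟨X.S.wpL L, X.S.wpL_mem_WG L, X.chi_of_conj hact hnst, fun ha hb1 => ?_⟩
  have hu1 : u = 1 := X.S.fixed_U ha (X.S.UPsi_le _ hu) eu
  have hv1 : v = 1 := X.S.fixed_U hb1 hv e2
  rw [hu1, hv1, mul_one, one_mul]
  exact ⟨mul_mem (Subgroup.mem_sup_left hd) hn, by simpa using X.S.act_mul (X.S.act_diag hd) hact⟩

end Field

end Dat

end Cfsg.Lib.Chev.Springer
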