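import Mathlib

/-! Integer matrices of finite order having a primitive eigenvalue modulo a prime. -/

set_option autoImplicit false

namespace Cfsg.Lib.Chev.Springer

open Matrix Polynomial

variable {ι : Type*} [Fintype ι] [DecidableEq ι]

/-- Reduction of a matrix modulo `r`. -/
noncomputable def red (r : ℕ) : Matrix ι ι ℤ →ₐ[ℤ] Matrix ι ι (ZMod r) :=
  (Int.castRingHom (ZMod r)).toIntAlgHom.mapMatrix

theorem red_apply (r : ℕ) (M : Matrix ι ι ℤ) (a b : ι) : red r M a b = (M a b : ZMod r) := rfl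

theorem red_aeval_mulVec {r : ℕ} {M : Matrix ι ι ℤ} {q : ZMod r} {k : ι → ZMod r}
    (hk : red r M *ᵥ k = q • k) (p : ℤ[X]) : red r (aeval M p) *ᵥ k = aeval q p • k := by
  induction p using Polynomial.induction_on' with
  | add a b ha hb => simp [map_add, add_mulVec, add_smul, ha, hb]
  | monomial n a =>
    have hp : (red r M ^ n) *ᵥ k = q ^ n • k := by
      induction n with
      | zero => simp
      | succ n ih => rw [pow_succ', ← mulVec_mulVec, ih, mulVec_smul, hk, smul_smul, pow_succ]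
    rw [aeval_monomial, aeval_monomial, ← Algebra.smul_def, ← Algebra.smul_def, map_zsmul, map_pow, smul_mulVec, hp,
      smul_assoc]

variable {M : Matrix ι ι ℤ} {e r : ℕ}

theorem charpoly_eq [Fact r.Prime] {m : ℕ} (hm : M ^ m = 1) (hrm : ¬ r ∣ m) (he : 0 < e)
    (hn : Nat.totient e = Fintype.card ι) {q : ZMod r} (hq : IsPrimitiveRoot q e)
    {k : ι → ZMod r} (hk0 : k ≠ 0) (hk : red r M *ᵥ k = q • k) : M.charpoly = cyclotomic e ℤ := by
  have hm0 : 0 < m := Nat.pos_of_ne_zero fun h => hrm (h ▸ dvd_zero r)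
  have hzero : ∀ p : ℤ[X], aeval M p = 0 → aeval q p = 0 := by
    intro p hp
    have h := red_aeval_mulVec hk p
    rw [hp, map_zero, zero_mulVec] at h
    exact (smul_eq_zero.1 h.symm).resolve_right hk0
  have hem : e ∣ m := by
    refine hq.dvd_of_pow_eq_one m (sub_eq_zero.1 ?_)
    have h := hzero (X ^ m - 1) (by simp [hm])
    rwa [map_sub, map_pow, aeval_X, map_one] at h
  obtain ⟨g, hg⟩ : cyclotomic e ℤ ∣ X ^ m - 1 := by
    rw [← prod_cyclotomic_eq_X_pow_sub_one hm0 ℤ]
    exact Finset.dvd_prod_of_mem _ (Nat.mem_divisors.2 ⟨hem, hm0.ne'⟩)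
  have hgq : aeval q g ≠ 0 := by
    intro h0
    have hsep : (X ^ m - 1 : (ZMod r)[X]).Separable :=
      X_pow_sub_one_separable_iff.2 fun h => hrm ((ZMod.natCast_eq_zero_iff m r).1 h)
    have h1 := congrArg (Polynomial.map (Int.castRingHom (ZMod r))) hg
    rw [Polynomial.map_sub, Polynomial.map_pow, map_X, Polynomial.map_one, Polynomial.map_mul, map_cyclotomic] at h1
    have a1 : X - C q ∣ cyclotomic e (ZMod r) :=
      dvd_iff_isRoot.2 (hq.isRoot_cyclotomic he)
    have a2 : X - C q ∣ g.map (Int.castRingHom (ZMod r)) := by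
      rw [dvd_iff_isRoot, IsRoot, eval_map]
      simpa [aeval_def] using h0
    exact not_isUnit_X_sub_C q (hsep.squarefree _ (h1 ▸ mul_dvd_mul a1 a2))
  let f : Matrix ι ι ℤ →ₐ[ℤ] Matrix ι ι ℚ := (Int.castRingHom ℚ).toIntAlgHom.mapMatrix
  have hf : Function.Injective f := fun a b h => by
    ext i j
    exact Int.cast_injective (α := ℚ) (Matrix.ext_iff.2 h i j)
  have hae : ∀ p : ℤ[X], aeval (f M) (p.map (Int.castRingHom ℚ)) = f (aeval M p) := fun p => by
    rw [← aeval_algHom_apply, ← algebraMap_int_eq, aeval_map_algebraMap]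
  set μ := minpoly ℚ (f M)
  have hμ : μ ∣ (cyclotomic e ℤ).map (Int.castRingHom ℚ) * g.map (Int.castRingHom ℚ) := by
    refine minpoly.dvd ℚ _ ?_
    rw [← Polynomial.map_mul, ← hg, hae]
    simp [hm]
  have hne : ¬ μ ∣ g.map (Int.castRingHom ℚ) := by
    intro h
    have h2 : aeval (f M) (g.map (Int.castRingHom ℚ)) = 0 := by
      obtain ⟨c, hc⟩ := h
      rw [hc, map_mul, minpoly.aeval, zero_mul]
    rw [hae] at h2
    exact hgq (hzero g (hf (h2.trans (map_zero f).symm)))
  have hirr : Irreducible ((cyclotomic e ℤ).map (Int.castRingHom ℚ)) := by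
    rw [map_cyclotomic]; exact cyclotomic.irreducible_rat he
  have hdvd : (cyclotomic e ℤ).map (Int.castRingHom ℚ) ∣ μ := by
    rcases hirr.isCoprime_or_dvd μ with h | h
    · exact absurd (h.symm.dvd_of_dvd_mul_left hμ) hne
    · exact h
  have h3 : (cyclotomic e ℤ).map (Int.castRingHom ℚ) ∣ (f M).charpoly :=
    hdvd.trans (Matrix.minpoly_dvd_charpoly _)
  have h4 : (f M).charpoly = M.charpoly.map (Int.castRingHom ℚ) := Matrix.charpoly_map M _
  refine Polynomial.map_injective (Int.castRingHom ℚ) (Int.cast_injective (α := ℚ)) ?_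
  rw [← h4]
  refine eq_of_monic_of_dvd_of_natDegree_le ((cyclotomic.monic e ℤ).map _) (Matrix.charpoly_monic _) h3 ?_
  rw [map_cyclotomic, natDegree_cyclotomic, hn, Matrix.charpoly_natDegree_eq_dim]

theorem eq_one_of_fixed [Fact r.Prime] (he : 0 < e) (hn : Nat.totient e = Fintype.card ι)
    (hchar : M.charpoly = cyclotomic e ℤ) {G : Type*} [Group G] [Fintype G] (ρ : G →* Matrix ι ι ℤ)
    (hr : ¬ r ∣ Fintype.card G) {k : ι → ZMod r} (hk0 : k ≠ 0) (hfix : ∀ g, red r (ρ g) *ᵥ k = k)
    (hnorm : ∀ g, ∃ g', ρ g * M = M * ρ g') (g : G) : ρ g = 1 := by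
  classical
  let f : Matrix ι ι ℤ →ₐ[ℤ] Matrix ι ι ℚ := (Int.castRingHom ℚ).toIntAlgHom.mapMatrix
  have hf : Function.Injective f := fun a b h => by
    ext i j
    exact Int.cast_injective (α := ℚ) (Matrix.ext_iff.2 h i j)
  set s := ∑ x, ρ x with hs
  have hs0 : s ≠ 0 := by
    intro h0
    have h := congrArg (fun z => red r z *ᵥ k) h0
    simp only [hs, map_sum, sum_mulVec, hfix, map_zero, zero_mulVec] at h
    rw [Finset.sum_const, Finset.card_univ, ← Nat.cast_smul_eq_nsmul (ZMod r)] at h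
    exact hr ((ZMod.natCast_eq_zero_iff _ _).1 ((smul_eq_zero.1 h).resolve_right hk0))
  obtain ⟨a, b, hab⟩ : ∃ a b, s a b ≠ 0 := by
    by_contra h
    push Not at h
    exact hs0 (Matrix.ext h)
  set u : ι → ℚ := f s *ᵥ Pi.single b 1
  have hu0 : u ≠ 0 := fun h => hab (by
    have := congrFun h a
    simpa [u, f] using this)
  have hfix' : ∀ (j : ℕ) (x : G), f (ρ x) *ᵥ (f M ^ j *ᵥ u) = f M ^ j *ᵥ u := by
    intro j
    induction j with
    | zero =>
      intro x
      rw [pow_zero, one_mulVec, mulVec_mulVec, ← map_mul, hs, Finset.mul_sum]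
      simp only [← map_mul]
      rw [Fintype.sum_equiv (Equiv.mulLeft x) (fun y => ρ (x * y)) ρ (fun _ => rfl)]
    | succ j ih =>
      intro x
      obtain ⟨x', hx'⟩ := hnorm x
      rw [pow_succ', ← mulVec_mulVec _ (f M), mulVec_mulVec _ (f (ρ x)), ← map_mul, hx', map_mul,
        ← mulVec_mulVec, ih]
  have hli : LinearIndependent ℚ fun j : Fin (Fintype.card ι) => f M ^ (j : ℕ) *ᵥ u := by
    rw [Fintype.linearIndependent_iff]
    intro c hc i
    set p : ℚ[X] := ∑ j : Fin (Fintype.card ι), monomial (j : ℕ) (c j) with hp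
    by_contra hci
    have hp0 : p ≠ 0 := fun h => hci (by
      have := congrArg (fun z => coeff z (i : ℕ)) h
      simpa [hp, finset_sum_coeff, coeff_monomial, Fin.val_inj] using this)
    have hdeg : p.natDegree < Fintype.card ι := by
      refine lt_of_le_of_lt (natDegree_sum_le_of_forall_le _ _ fun j _ =>
        (natDegree_monomial_le _).trans (Nat.le_sub_one_of_lt j.isLt)) ?_
      have := i.isLt
      omega
    have hirr : Irreducible ((cyclotomic e ℤ).map (Int.castRingHom ℚ)) := by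
      rw [map_cyclotomic]; exact cyclotomic.irreducible_rat he
    have hndvd : ¬ (cyclotomic e ℤ).map (Int.castRingHom ℚ) ∣ p := fun h => by
      have := natDegree_le_of_dvd h hp0
      rw [map_cyclotomic, natDegree_cyclotomic, hn] at this
      omega
    obtain ⟨v, w, hvw⟩ := (hirr.isCoprime_or_dvd p).resolve_right hndvd
    have h1 := congrArg (fun z => aeval (f M) z *ᵥ u) hvw
    have hcp : aeval (f M) ((cyclotomic e ℤ).map (Int.castRingHom ℚ)) = 0 := by
      rw [← hchar, ← Matrix.charpoly_map]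
      exact Matrix.aeval_self_charpoly _
    have hpu : aeval (f M) p *ᵥ u = 0 := by
      rw [← hc, hp, map_sum, sum_mulVec]
      exact Finset.sum_congr rfl fun j _ => by rw [aeval_monomial, ← Algebra.smul_def, smul_mulVec]
    simp only [map_add, map_mul, map_one, hcp, mul_zero, zero_add, one_mulVec, ← mulVec_mulVec, hpu,
      mulVec_zero] at h1
    exact hu0 h1.symm
  have : Nonempty ι := ⟨a⟩
  have hspan := hli.span_eq_top_of_card_eq_finrank (by simp)
  have hlin : Matrix.mulVecLin (f (ρ g)) = LinearMap.id := by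
    refine LinearMap.ext_on_range hspan fun j => ?_
    exact hfix' j g
  refine hf (Matrix.toLin'.injective ?_)
  rw [map_one, Matrix.toLin'_one]
  exact hlin

/-- Two vectors killed by a matrix with nonzero adjugate are proportional. -/
theorem proportional {L : Type*} [Field L] {A : Matrix ι ι L} (hA : A.adjugate ≠ 0) {u v : ι → L}
    (hu : A *ᵥ u = 0) (hv : A *ᵥ v = 0) (hu0 : u ≠ 0) : ∃ a : L, v = a • u := by
  obtain ⟨i, j, hij⟩ : ∃ i j, A.adjugate i j ≠ 0 := by
    by_contra h
    push Not at h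
    exact hA (Matrix.ext h)
  have key : ∀ w, A *ᵥ w = 0 → w i = 0 → w = 0 := by
    intro w hw hwi
    by_contra hw0
    refine hij ?_
    rw [adjugate_apply]
    refine exists_mulVec_eq_zero_iff.1 ⟨w, hw0, funext fun x => ?_⟩
    show (A.updateRow j (Pi.single i 1)) x ⬝ᵥ w = 0
    by_cases hx : x = j
    · rw [hx, updateRow_self]
      simpa [dotProduct, Pi.single_apply] using hwi
    · rw [updateRow_ne hx]
      exact congrFun hw x
  have hui : u i ≠ 0 := fun h => hu0 (key u hu h)
  refine ⟨v i / u i, sub_eq_zero.1 (key _ ?_ ?_)⟩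
  · rw [mulVec_sub, mulVec_smul, hu, hv, smul_zero, sub_zero]
  · simp [hui]

/-- The adjugate of `q - M` does not vanish modulo a simple or unramified prime divisor of the determinant. -/
theorem adjugate_ne_zero {ℓ : ℕ} [Fact ℓ.Prime] (hchar : M.charpoly = cyclotomic e ℤ) {q : ℤ} {N : ℕ}
    (hN : (cyclotomic e ℤ).eval q = N) (hN0 : N ≠ 0) (hl : ℓ ∣ N) (h : ¬ ℓ ∣ e ∨ ¬ ℓ ^ 2 ∣ N) :
    (red ℓ (Matrix.scalar ι q - M)).adjugate ≠ 0 := by
  intro h0
  set A := Matrix.scalar ι q - M with hA
  have hdet : A.det = N := by rw [hA, ← Matrix.eval_charpoly, hchar, hN]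
  have hadj : red ℓ A.adjugate = 0 := by
    rw [← h0]
    exact RingHom.map_adjugate (Int.castRingHom (ZMod ℓ)) A
  have hlN : (N : ZMod ℓ) = 0 := (ZMod.natCast_eq_zero_iff _ _).2 hl
  rcases h with h | h
  · obtain ⟨g, hg⟩ := X_sub_C_dvd_sub_C_eval (a := q) (p := cyclotomic e ℤ)
    rw [hN] at hg
    have hgM : A * aeval M g = (N : ℤ) • (1 : Matrix ι ι ℤ) := by
      have h1 := congrArg (aeval M) hg
      have hc : aeval M (cyclotomic e ℤ) = 0 := hchar ▸ Matrix.aeval_self_charpoly M
      rw [map_sub, map_mul, hc, zero_sub, map_sub, aeval_X, aeval_C, aeval_C] at h1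
      rw [hA, show Matrix.scalar ι q = algebraMap ℤ (Matrix ι ι ℤ) q from rfl, ← neg_sub, neg_mul, ← h1, neg_neg,
        Algebra.algebraMap_eq_smul_one]
    have hg' : aeval M g = A.adjugate := by
      have h1 := congrArg (A.adjugate * ·) hgM
      simp only [← mul_assoc, adjugate_mul, hdet, smul_mul_assoc, one_mul, mul_smul_comm, mul_one] at h1
      exact smul_right_injective _ (by exact_mod_cast hN0) h1
    have hdetl : (red ℓ A).det = 0 := by
      rw [show (red ℓ A).det = (A.det : ZMod ℓ) from ((Int.castRingHom (ZMod ℓ)).map_det A).symm, hdet]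
      exact_mod_cast hlN
    obtain ⟨v, hv0, hv⟩ := exists_mulVec_eq_zero_iff.2 hdetl
    have hMv : red ℓ M *ᵥ v = (q : ZMod ℓ) • v := by
      rw [hA, map_sub, sub_mulVec, sub_eq_zero] at hv
      rw [← hv, show Matrix.scalar ι q = algebraMap ℤ (Matrix ι ι ℤ) q from rfl, AlgHom.commutes,
        Algebra.algebraMap_eq_smul_one, smul_mulVec, one_mulVec]
      exact (Int.cast_smul_eq_zsmul (ZMod ℓ) q v).symm
    have hgv := red_aeval_mulVec hMv g
    rw [hg', hadj, zero_mulVec] at hgv
    have hgq := (smul_eq_zero.1 hgv.symm).resolve_right hv0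
    have : NeZero (e : ZMod ℓ) := ⟨fun h' => h ((ZMod.natCast_eq_zero_iff _ _).1 h')⟩
    have hd := congrArg (fun p => aeval (q : ZMod ℓ) (derivative p)) hg
    simp only [derivative_sub, derivative_C, sub_zero, derivative_mul, derivative_X, one_mul, map_add, map_mul,
      map_sub, aeval_X, aeval_C, hgq, eq_intCast, sub_self, zero_mul, add_zero] at hd
    have hroot : aeval (q : ZMod ℓ) (cyclotomic e (ZMod ℓ)) = 0 := by
      rw [coe_aeval_eq_eval, ← map_cyclotomic e (Int.castRingHom (ZMod ℓ)), eval_intCast_map, Int.cast_id, hN]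
      simpa using hlN
    refine (separable_cyclotomic e (ZMod ℓ)).aeval_derivative_ne_zero hroot ?_
    rw [← map_cyclotomic e (Int.castRingHom (ZMod ℓ)), derivative_map, ← algebraMap_int_eq,
      aeval_map_algebraMap]
    simpa using hd
  · have hdiv : ∀ a b, (ℓ : ℤ) ∣ A.adjugate a b := fun a b =>
      (ZMod.intCast_zmod_eq_zero_iff_dvd _ _).1 (by rw [← red_apply, hadj]; rfl)
    choose B hB using hdiv
    have hB' : A.adjugate = (ℓ : ℤ) • Matrix.of B := by ext a b; simp [hB]
    have h1 := det_adjugate A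
    rw [hB', det_smul, hdet] at h1
    obtain ⟨N', rfl⟩ := hl
    have hn1 : 1 ≤ Fintype.card ι := by
      by_contra hc
      have : IsEmpty ι := Fintype.card_eq_zero_iff.1 (by omega)
      rw [det_isEmpty] at hdet
      have hlp := (Fact.out : ℓ.Prime).two_le
      have : ℓ * N' = 1 := by exact_mod_cast hdet.symm
      have := Nat.eq_one_of_mul_eq_one_right this
      omega
    have h2 : (ℓ : ℤ) ∣ (N' : ℤ) ^ (Fintype.card ι - 1) := by
      refine ⟨(Matrix.of B).det, mul_left_cancel₀ (pow_ne_zero (Fintype.card ι - 1)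
        (Nat.cast_ne_zero.2 (Fact.out : ℓ.Prime).ne_zero : (ℓ : ℤ) ≠ 0)) ?_⟩
      rw [← mul_assoc, ← pow_succ, Nat.sub_add_cancel hn1, h1, ← mul_pow]
      push_cast
      rfl
    refine h ?_
    rw [sq]
    exact mul_dvd_mul_left _ (Int.natCast_dvd_natCast.1 ((Nat.prime_iff_prime_int.1 Fact.out).dvd_of_dvd_pow h2))

end Cfsg.Lib.Chev.Springer
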