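import Cfsg.Agent.Chev.Springer.Linear

/-! Integer matrices acting on the powers of a cyclic group, and the kernel of `q - M`. -/

set_option autoImplicit false

namespace Cfsg.Lib.Chev.Springer

open Matrix Polynomial

variable {ι : Type*} [Fintype ι] [DecidableEq ι] {H : Type*} [CommGroup H]

/-- The action of an integer matrix on tuples. -/
def star (X : Matrix ι ι ℤ) : (ι → H) →* (ι → H) where
  toFun a j := ∏ k, a k ^ X j k
  map_one' := by funext j; simp
  map_mul' a b := by funext j; simp [mul_zpow, Finset.prod_mul_distrib]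

theorem star_apply (X : Matrix ι ι ℤ) (a : ι → H) (j : ι) : star X a j = ∏ k, a k ^ X j k := rfl

theorem prod_zpow_sum {α : Type*} (s : Finset α) (f : α → ℤ) (a : H) : ∏ x ∈ s, a ^ f x = a ^ ∑ x ∈ s, f x := by
  classical
  induction s using Finset.induction_on with
  | empty => simp
  | insert x s hx ih => rw [Finset.prod_insert hx, Finset.sum_insert hx, _root_.zpow_add, ih]

theorem star_mul (X Y : Matrix ι ι ℤ) (a : ι → H) : star (X * Y) a = star X (star Y a) := by
  funext j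
  simp only [star_apply, Matrix.mul_apply, ← prod_zpow_sum, ← Finset.prod_zpow, ← _root_.zpow_mul]
  rw [Finset.prod_comm]
  exact Finset.prod_congr rfl fun _ _ => Finset.prod_congr rfl fun _ _ => by rw [mul_comm]

theorem star_scalar (z : ℤ) (a : ι → H) : star (Matrix.scalar ι z) a = a ^ z := by
  funext j
  rw [star_apply, Finset.prod_eq_single j]
  · simp [Matrix.intCast_apply, Matrix.scalar_apply]
  · intro k _ hk; simp [Matrix.intCast_apply, Matrix.scalar_apply, Ne.symm hk]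
  · simp

theorem star_one (a : ι → H) : star (1 : Matrix ι ι ℤ) a = a := by
  rw [← map_one (Matrix.scalar ι), star_scalar, _root_.zpow_one]

theorem star_sub (X Y : Matrix ι ι ℤ) (a : ι → H) : star (X - Y) a = star X a / star Y a := by
  funext j
  simp [star_apply, _root_.zpow_sub, Finset.prod_mul_distrib, div_eq_mul_inv]

/-- The tuples moved by `M` to their `q`-th powers. -/
def torus (H : Type*) [CommGroup H] (M : Matrix ι ι ℤ) (q : ℤ) : Subgroup (ι → H) :=
  (star (Matrix.scalar ι q - M)).ker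

theorem mem_torus {M : Matrix ι ι ℤ} {q : ℤ} {a : ι → H} : a ∈ torus H M q ↔ star M a = a ^ q := by
  rw [torus, MonoidHom.mem_ker, star_sub, star_scalar, div_eq_one, eq_comm]

/-- The exponent vector of a tuple of torsion elements. -/
theorem exists_log {H : Type*} [CommGroup H] [IsCyclic H] [Finite H] {d : ℕ} (hd : d ∣ Nat.card H) :
    ∃ ζ : H, orderOf ζ = d ∧ ∀ a : ι → H, (∀ j, a j ^ d = 1) → ∃ k : ι → ℕ, ∀ j, a j = ζ ^ k j := by
  obtain ⟨u, hu⟩ := IsCyclic.exists_ofOrder_eq_natCard (α := H)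
  obtain ⟨c, hc⟩ := hd
  have hc0 : 0 < c := Nat.pos_of_ne_zero fun h => by
    have := Nat.card_pos (α := H); rw [hc, h, mul_zero] at this; omega
  have hd0 : 0 < d := Nat.pos_of_ne_zero fun h => by
    have := Nat.card_pos (α := H); rw [hc, h, zero_mul] at this; omega
  refine ⟨u ^ c, ?_, fun a ha => ?_⟩
  · rw [orderOf_pow, hu, hc, Nat.gcd_mul_left_left, Nat.mul_div_cancel _ hc0]
  · have key : ∀ j, ∃ k : ℕ, a j = (u ^ c) ^ k := by
      intro j
      have htop : Subgroup.zpowers u = ⊤ := Subgroup.eq_top_of_card_eq _ ((Nat.card_zpowers u).trans hu)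
      obtain ⟨m, hm⟩ := mem_powers_iff_mem_zpowers.2 (show a j ∈ Subgroup.zpowers u from htop ▸ Subgroup.mem_top _)
      simp only at hm
      have h1 : d * c ∣ m * d := by
        rw [← hc, ← hu, orderOf_dvd_iff_pow_eq_one, pow_mul, hm, ha j]
      rw [mul_comm m d] at h1
      obtain ⟨k, rfl⟩ := (Nat.mul_dvd_mul_iff_left hd0).1 h1
      exact ⟨k, by rw [← hm, pow_mul]⟩
    choose k hk using key
    exact ⟨k, hk⟩

theorem star_zeta {ℓ : ℕ} (X : Matrix ι ι ℤ) {ζ : H} (hζ : orderOf ζ = ℓ) (k : ι → ℕ) :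
    star X (fun j => ζ ^ k j) = 1 ↔ red ℓ X *ᵥ (fun j => (k j : ZMod ℓ)) = 0 := by
  have e : ∀ j, star X (fun j => ζ ^ k j) j = ζ ^ (∑ x, (k x : ℤ) * X j x) := fun j => by
    simp only [star_apply, ← prod_zpow_sum, _root_.zpow_mul, _root_.zpow_natCast]
  rw [funext_iff, funext_iff]
  refine forall_congr' fun j => ?_
  rw [e, Pi.one_apply, Pi.zero_apply, ← orderOf_dvd_iff_zpow_eq_one, hζ, ← ZMod.intCast_zmod_eq_zero_iff_dvd]
  simp [mulVec, dotProduct, red_apply, mul_comm]

/-- An abelian group with at most `p` solutions of `x ^ p = 1` for each prime `p` is cyclic. -/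
theorem isCyclic_of_prime_ker {G : Type*} [CommGroup G] [Finite G]
    (h : ∀ p : ℕ, p.Prime → Nat.card (powMonoidHom p : G →* G).ker ≤ p) : IsCyclic G := by
  classical
  have : Fintype G := Fintype.ofFinite G
  have hall : ∀ n : ℕ, 0 < n → Nat.card (powMonoidHom n : G →* G).ker ≤ n := by
    intro n
    induction n using induction_on_primes with
    | zero => exact fun h => absurd h (lt_irrefl 0)
    | one =>
      intro _
      have : (powMonoidHom 1 : G →* G).ker = ⊥ := by ext x; simp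
      rw [this, Subgroup.card_bot]
    | prime_mul p a hp ih =>
      intro h0
      have ha : 0 < a := Nat.pos_of_mul_pos_left h0
      let φ : ↥(powMonoidHom (p * a) : G →* G).ker →* G :=
        (powMonoidHom p).comp (powMonoidHom (p * a) : G →* G).ker.subtype
      have h1 : φ.range ≤ (powMonoidHom a : G →* G).ker := by
        rintro _ ⟨y, rfl⟩
        show ((y : G) ^ p) ^ a = 1
        rw [← pow_mul]
        exact y.2
      have h2 : Nat.card φ.ker ≤ p := by
        refine le_trans ?_ (h p hp)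
        exact Nat.card_le_card_of_injective (fun y => ⟨(y.1 : G), y.2⟩)
          (fun y z h => Subtype.ext (Subtype.ext (congrArg Subtype.val h :)))
      rw [← Subgroup.card_mul_index φ.ker, Subgroup.index_ker]
      exact Nat.mul_le_mul h2 ((Subgroup.card_le_of_le h1).trans (ih ha))
  refine isCyclic_of_card_pow_eq_one_le fun n hn => le_trans (le_of_eq ?_) (hall n hn)
  rw [← Fintype.card_subtype, ← Nat.card_eq_fintype_card]
  rfl

variable [IsCyclic H] [Finite H]

theorem torus_exp {M : Matrix ι ι ℤ} {e : ℕ} (hchar : M.charpoly = cyclotomic e ℤ) {q : ℤ}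
    {N : ℕ} (hN : (cyclotomic e ℤ).eval q = N) {a : ι → H} (ha : a ∈ torus H M q) : a ^ N = 1 := by
  have hdet : (Matrix.scalar ι q - M).det = N := by rw [← Matrix.eval_charpoly, hchar, hN]
  have h : star (Matrix.scalar ι q - M).adjugate (star (Matrix.scalar ι q - M) a) = 1 := by
    rw [show star (Matrix.scalar ι q - M) a = 1 from ha, map_one]
  rw [← star_mul, adjugate_mul, hdet,
    show ((N : ℤ) • (1 : Matrix ι ι ℤ)) = Matrix.scalar ι (N : ℤ) from (Algebra.algebraMap_eq_smul_one _).symm,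
    star_scalar, _root_.zpow_natCast] at h
  exact h

theorem torus_ker_le {M : Matrix ι ι ℤ} {e : ℕ} (hchar : M.charpoly = cyclotomic e ℤ) {q : ℤ}
    {N : ℕ} (hN : (cyclotomic e ℤ).eval q = N) (hN0 : N ≠ 0) {ℓ : ℕ} (hℓ : ℓ.Prime) {ζ : H} (hζ : orderOf ζ = ℓ)
    (hlN : ℓ ∣ N) (hbad : ¬ ℓ ∣ e ∨ ¬ ℓ ^ 2 ∣ N)
    (hlog : ∀ a : ι → H, (∀ j, a j ^ ℓ = 1) → ∃ k : ι → ℕ, ∀ j, a j = ζ ^ k j) :
    Nat.card {y : ι → H // y ∈ torus H M q ∧ y ^ ℓ = 1} ≤ ℓ := by
  classical
  have : Fact ℓ.Prime := ⟨hℓ⟩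
  by_cases htriv : ∀ y : ι → H, y ∈ torus H M q ∧ y ^ ℓ = 1 → y = 1
  · have : Subsingleton {y : ι → H // y ∈ torus H M q ∧ y ^ ℓ = 1} :=
      ⟨fun a b => Subtype.ext ((htriv _ a.2).trans (htriv _ b.2).symm)⟩
    exact (Finite.card_le_one_iff_subsingleton.2 this).trans hℓ.one_le
  push Not at htriv
  obtain ⟨x, hx, hx1⟩ := htriv
  have hvec : ∀ y : ι → H, y ∈ torus H M q ∧ y ^ ℓ = 1 → ∃ k : ι → ℕ, y = (fun j => ζ ^ k j) ∧
      red ℓ (Matrix.scalar ι q - M) *ᵥ (fun j => (k j : ZMod ℓ)) = 0 := by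
    intro y hy
    obtain ⟨k, hk⟩ := hlog y fun j => congrFun hy.2 j
    refine ⟨k, funext hk, (star_zeta _ hζ k).1 ?_⟩
    rw [← funext hk]
    exact hy.1
  obtain ⟨k, hk, hk'⟩ := hvec x hx
  have hk0 : (fun j => (k j : ZMod ℓ)) ≠ 0 := fun h => hx1 (funext fun j => by
    rw [hk]
    exact orderOf_dvd_iff_pow_eq_one.1 (hζ.symm ▸ (ZMod.natCast_eq_zero_iff _ _).1 (congrFun h j)))
  have hA := adjugate_ne_zero hchar hN hN0 hlN hbad
  let f : ZMod ℓ → (ι → H) := fun a j => ζ ^ (a.val * k j)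
  have hsub : ∀ y : {y : ι → H // y ∈ torus H M q ∧ y ^ ℓ = 1}, (y : ι → H) ∈ Set.range f := by
    intro y
    obtain ⟨k', hky, hky'⟩ := hvec y.1 y.2
    obtain ⟨a, ha⟩ := proportional hA hk' hky' hk0
    refine ⟨a, ?_⟩
    rw [hky]
    funext j
    rw [pow_eq_pow_iff_modEq, hζ, ← ZMod.natCast_eq_natCast_iff]
    have := congrFun ha j
    simp only [Pi.smul_apply, smul_eq_mul] at this
    rw [this, Nat.cast_mul, ZMod.natCast_val, ZMod.cast_id', id_eq]
  refine (Nat.card_le_card_of_injective (fun y => (⟨y.1, hsub y⟩ : Set.range f))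
    (fun a b h => Subtype.ext (congrArg Subtype.val h :))).trans ?_
  exact (Finite.card_range_le f).trans (Nat.card_zmod ℓ).le

/-- The kernel of `q - M` is cyclic of order the value of the cyclotomic polynomial at `q`. -/
theorem torus_cyclic [Nonempty ι] {M : Matrix ι ι ℤ} {e : ℕ} (hchar : M.charpoly = cyclotomic e ℤ) {q : ℤ}
    {N : ℕ} (hN : (cyclotomic e ℤ).eval q = N) (hN0 : N ≠ 0) (hdiv : N ∣ Nat.card H)
    (hbad : ∀ ℓ : ℕ, ℓ.Prime → ℓ ∣ N → ¬ ℓ ∣ e ∨ ¬ ℓ ^ 2 ∣ N) :
    IsCyclic ↥(torus H M q) ∧ Nat.card ↥(torus H M q) = N := by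
  classical
  set A := Matrix.scalar ι q - M with hA
  have hdet : A.det = N := by rw [hA, ← Matrix.eval_charpoly, hchar, hN]
  have hexp : ∀ a ∈ torus H M q, a ^ N = 1 := fun a ha => torus_exp hchar hN ha
  have hcyc : IsCyclic ↥(torus H M q) := by
    refine isCyclic_of_prime_ker fun ℓ hℓ => ?_
    by_cases hlN : ℓ ∣ N
    · obtain ⟨ζ, hζ, hlog⟩ := exists_log (ι := ι) (H := H) (hlN.trans hdiv)
      refine le_trans ?_ (torus_ker_le hchar hN hN0 hℓ hζ hlN (hbad ℓ hℓ hlN) hlog)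
      exact Nat.card_le_card_of_injective (fun y => ⟨(y.1 : ι → H), y.1.2, congrArg Subtype.val y.2⟩)
        (fun a b h => Subtype.ext (Subtype.ext (congrArg Subtype.val h :)))
    · refine le_trans (le_of_eq ?_) hℓ.one_le
      refine Subgroup.card_eq_one.2 (eq_bot_iff.2 fun y hy => ?_)
      have h2 : (y : ↥(torus H M q)) ^ Nat.gcd ℓ N = 1 := pow_gcd_eq_one.2 ⟨hy, Subtype.ext (hexp _ y.2)⟩
      rw [(hℓ.coprime_iff_not_dvd.2 hlN).gcd_eq_one, pow_one] at h2
      exact h2
  refine ⟨hcyc, ?_⟩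
  rw [← IsCyclic.exponent_eq_card]
  refine Nat.dvd_antisymm (Monoid.exponent_dvd_of_forall_pow_eq_one fun a => Subtype.ext (hexp _ a.2)) ?_
  obtain ⟨ζ, hζ, -⟩ := exists_log (ι := ι) (H := H) hdiv
  set d := Monoid.exponent ↥(torus H M q)
  have hent : ∀ a b, (N : ℤ) ∣ A.adjugate a b * d := by
    intro a b
    let y : ι → H := fun j => ζ ^ A.adjugate j b
    have hy : y ∈ torus H M q := by
      refine MonoidHom.mem_ker.2 (funext fun j => ?_)
      rw [star_apply]
      simp only [y, ← _root_.zpow_mul, prod_zpow_sum, Pi.one_apply]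
      rw [← orderOf_dvd_iff_zpow_eq_one, hζ,
        show ∑ x, A.adjugate x b * (Matrix.scalar ι q - M) j x = (A * A.adjugate) j b from by
          simp [Matrix.mul_apply, hA, mul_comm],
        mul_adjugate, hdet, Matrix.smul_apply, smul_eq_mul]
      exact dvd_mul_right _ _
    have h := congrFun (congrArg Subtype.val (Monoid.pow_exponent_eq_one (⟨y, hy⟩ : ↥(torus H M q)))) a
    rw [← hζ, orderOf_dvd_iff_zpow_eq_one, _root_.zpow_mul, _root_.zpow_natCast]
    exact h
  by_contra hd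
  obtain ⟨ℓ, hℓ, hlg⟩ := Nat.exists_prime_and_dvd (n := N / Nat.gcd N d) fun h => hd (by
    have hg := Nat.gcd_dvd_left N d
    have hge : Nat.gcd N d = N := by
      have := Nat.div_mul_cancel hg
      rw [h, one_mul] at this
      exact this
    exact hge ▸ Nat.gcd_dvd_right N d)
  have hg := Nat.gcd_dvd_left N d
  have hgpos : 0 < Nat.gcd N d := Nat.gcd_pos_of_pos_left _ (Nat.pos_of_ne_zero hN0)
  have hlN : ℓ ∣ N := hlg.trans (Nat.div_dvd_of_dvd hg)
  have : Fact ℓ.Prime := ⟨hℓ⟩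
  refine adjugate_ne_zero hchar hN hN0 hlN (hbad ℓ hℓ hlN) ?_
  rw [show (red ℓ A).adjugate = red ℓ A.adjugate from (RingHom.map_adjugate (Int.castRingHom (ZMod ℓ)) A).symm]
  ext a b
  rw [red_apply, Matrix.zero_apply, ZMod.intCast_zmod_eq_zero_iff_dvd]
  have hd' : (d / Nat.gcd N d).Coprime (N / Nat.gcd N d) := (Nat.coprime_div_gcd_div_gcd hgpos).symm
  have h1 : N / Nat.gcd N d ∣ (A.adjugate a b).natAbs := by
    have h2 : N ∣ (A.adjugate a b).natAbs * d := by
      have := Int.natAbs_dvd_natAbs.2 (hent a b)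
      rwa [Int.natAbs_natCast, Int.natAbs_mul, Int.natAbs_natCast] at this
    have h3 : N / Nat.gcd N d * Nat.gcd N d ∣ (A.adjugate a b).natAbs * (d / Nat.gcd N d) * Nat.gcd N d := by
      rwa [Nat.div_mul_cancel hg, mul_assoc, Nat.div_mul_cancel (Nat.gcd_dvd_right N d)]
    exact hd'.symm.dvd_of_dvd_mul_right ((Nat.mul_dvd_mul_iff_right hgpos).1 h3)
  exact Int.natCast_dvd.2 (hlg.trans h1)

end Cfsg.Lib.Chev.Springer
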