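import Cfsg.Agent.Chev.Springer.Main

/-! Diagonal elements of bounded order, a projector onto the twisted fixed points, and descent of the scalars. -/

set_option autoImplicit false

open Cfsg.Lie

namespace Cfsg.Lib.Chev.Springer

open Matrix

variable {D : ChevalleyDatum} {C : Cert} {T : List (List ℤ)}
variable {K : Type*} [Field K]

/-- The exponent of the kernel of `tG` is coprime to `m`. -/
structure TorOK (D : ChevalleyDatum) (K : Type*) [Field K] (m : ℕ) : Prop where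
  ker : ∃ E : ℕ, m.Coprime E ∧ ∀ c ∈ (Ok.tG D K).ker, c ^ E = 1

theorem eq_one_of_coprime {G : Type*} [Monoid G] {x : G} {m E : ℕ} (h : m.Coprime E) (h1 : x ^ m = 1)
    (h2 : x ^ E = 1) : x = 1 := by
  have h3 := pow_gcd_eq_one.2 ⟨h1, h2⟩
  rwa [h.gcd_eq_one, pow_one] at h3

theorem exists_inv_modEq {E m : ℕ} (h : E.Coprime m) : ∃ e, E * e ≡ 1 [MOD m] := by
  rcases Nat.eq_zero_or_pos m with rfl | hm
  · exact ⟨1, by rw [Nat.coprime_zero_right] at h; rw [h]⟩
  have : NeZero m := ⟨hm.ne'⟩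
  refine ⟨((↑(ZMod.unitOfCoprime E h)⁻¹ : ZMod m)).val, (ZMod.natCast_eq_natCast_iff _ _ _).1 ?_⟩
  rw [Nat.cast_mul, ZMod.natCast_val, ZMod.cast_id', id_eq, Nat.cast_one, ← ZMod.coe_unitOfCoprime E h,
    Units.mul_inv]

theorem chi_ext_tG (X : Dat D C T) {a b : Fin D.rank → Kˣ} (h : ∀ s : Fin D.nroots, chi D a s.val = chi D b s.val) :
    Ok.tG D K a = Ok.tG D K b := by
  refine Units.ext ?_
  rw [Ok.tG_val, Ok.tG_val]
  congr 1
  funext x
  rcases x with y | s
  · rfl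
  · have := congrArg Units.val (h s)
    simpa [chi] using this

theorem tG_torsion_inj {m : ℕ} (H : TorOK D K m) {a b : Fin D.rank → Kˣ} (ha : a ^ m = 1) (hb : b ^ m = 1)
    (h : Ok.tG D K a = Ok.tG D K b) : a = b := by
  obtain ⟨E, hE, hker⟩ := H.ker
  refine mul_inv_eq_one.1 (eq_one_of_coprime hE ?_ (hker _ ?_))
  · rw [mul_pow, inv_pow, ha, hb, inv_one, mul_one]
  · rw [MonoidHom.mem_ker, map_mul, map_inv, h, mul_inv_cancel]

theorem exists_torsion {m : ℕ} (H : TorOK D K m) (c : Fin D.rank → Kˣ) (hc : Ok.tG D K c ^ m = 1) :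
    ∃ c' : Fin D.rank → Kˣ, c' ^ m = 1 ∧ Ok.tG D K c' = Ok.tG D K c := by
  obtain ⟨E, hE, hker⟩ := H.ker
  have hkm : (c ^ m) ^ E = 1 := hker _ (by rw [MonoidHom.mem_ker, map_pow, hc])
  obtain ⟨e, he⟩ := exists_inv_modEq hE.symm
  refine ⟨c ^ (E * e), ?_, ?_⟩
  · rw [← pow_mul, show E * e * m = m * E * e by ring, pow_mul, pow_mul, hkm, one_pow]
  · rw [map_pow]
    conv_rhs => rw [← pow_one (Ok.tG D K c)]
    exact pow_eq_pow_of_modEq he hc

theorem al_torsion (X : Dat D C T) [Finite K] {m : ℕ} (H : TorOK D K m) (α : Fin D.rank → Kˣ) (hα : α ^ m = 1) :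
    ∃ c : Fin D.rank → Kˣ, c ^ m = 1 ∧ X.al c = α := by
  let A : Subgroup (Fin D.rank → Kˣ) := (powMonoidHom m).ker
  let f : ↥A → ↥A := fun c => ⟨X.al c.1, by
    show X.al c.1 ^ m = 1
    rw [← map_pow, show (c.1 : Fin D.rank → Kˣ) ^ m = 1 from c.2, map_one]⟩
  have hf : Function.Injective f := fun a b h =>
    Subtype.ext (tG_torsion_inj H a.2 b.2 (chi_ext_tG X (X.chi_ext (congrArg Subtype.val h))))
  obtain ⟨c, hc⟩ := Finite.injective_iff_surjective.1 hf ⟨α, hα⟩
  exact ⟨c.1, c.2, congrArg Subtype.val hc⟩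

variable {ι : Type*} [Fintype ι] [DecidableEq ι] {H : Type*} [CommGroup H]

/-- The weighted orbit product. -/
def twAvg (M : Matrix ι ι ℤ) (u m0 : ℕ) (α : ι → H) : ι → H :=
  ∏ j ∈ Finset.range m0, star (M ^ j) α ^ u ^ j

theorem star_twAvg {M : Matrix ι ι ℤ} {u m0 q m : ℕ} (hM : M ^ m0 = 1) (hu : q * u ≡ 1 [MOD m])
    (hu0 : u ^ m0 ≡ 1 [MOD m]) {α : ι → H} (hα : α ^ m = 1) :
    star M (twAvg M u m0 α) = twAvg M u m0 α ^ q := by
  set f : ℕ → (ι → H) := fun j => star (M ^ j) α ^ u ^ j with hf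
  have hfm : ∀ j, star (M ^ j) α ^ m = 1 := fun j => by rw [← map_pow, hα, map_one]
  have h0 : f m0 = f 0 := by
    simp only [hf, hM, pow_zero, pow_one, star_one]
    conv_rhs => rw [← pow_one α]
    exact pow_eq_pow_of_modEq hu0 hα
  have hstep : ∀ j, star M (f j) = f (j + 1) ^ q := fun j => by
    simp only [hf]
    rw [map_pow, ← star_mul, ← pow_succ', ← pow_mul]
    refine pow_eq_pow_of_modEq ?_ (hfm _)
    calc u ^ j = u ^ j * 1 := (mul_one _).symm
      _ ≡ u ^ j * (q * u) [MOD m] := hu.symm.mul_left _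
      _ = u ^ (j + 1) * q := by ring
  show star M (∏ j ∈ Finset.range m0, f j) = (∏ j ∈ Finset.range m0, f j) ^ q
  rw [map_prod, Finset.prod_congr rfl (fun j _ => hstep j), Finset.prod_pow]
  congr 1
  have h1 := Finset.prod_range_succ' f m0
  rw [Finset.prod_range_succ, h0] at h1
  exact (mul_right_cancel h1).symm

theorem twAvg_pow {M : Matrix ι ι ℤ} {u m0 q r n : ℕ} (hu : q * u ≡ 1 [MOD r]) {α v : ι → H}
    (hv : α ^ n = v) (hvr : v ^ r = 1) (hMv : star M v = v ^ q) : twAvg M u m0 α ^ n = v ^ m0 := by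
  rw [twAvg, ← Finset.prod_pow]
  conv_rhs => rw [← Finset.card_range m0]
  refine Finset.prod_eq_pow_card fun j _ => ?_
  rw [← pow_mul, mul_comm, pow_mul, ← map_pow, hv]
  have hj : ∀ i, star (M ^ i) v = v ^ q ^ i := fun i => by
    induction i with
    | zero => simp [star_one]
    | succ i ih => rw [pow_succ', star_mul, ih, map_pow, hMv, ← pow_mul, ← pow_succ']
  rw [hj, ← pow_mul]
  conv_rhs => rw [← pow_one v]
  refine pow_eq_pow_of_modEq ?_ hvr
  rw [← mul_pow]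
  simpa using hu.pow j

variable {F : Type*} [Field F] [Algebra F K]

/-- A fixed element of finite order prime to the exponent of the kernel is rational. -/
theorem fixed_mem_pow (X : Dat D C T) {σ : K →+* K} {q E : ℕ} (hσ : ∀ x, σ x = x ^ q)
    (hσF : ∀ a, σ (algebraMap F K a) = algebraMap F K a)
    (hfix : ∀ x, σ x = x → x ∈ Set.range (algebraMap F K)) (hker : ∀ c ∈ (Ok.tG D K).ker, c ^ E = 1)
    {x : GL D.Idx K} (hx : x ∈ D.group K) (hfx : phiG σ D x = x) {m : ℕ} (hm : m.Coprime E) (hxm : x ^ m = 1) :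
    x ∈ (D.group F).map (ext D F K) := by
  set R := (D.group F).map (ext D F K) with hR
  obtain ⟨l, hl, d, hd, hdf, rfl⟩ := fixed_decomp σ X.S X.hN hx hfx
  have hlR : l ∈ R := by
    refine (Subgroup.closure_le _).2 ?_ hl
    rintro y ⟨s, t, ht, hy⟩
    obtain ⟨t0, rfl⟩ := hfix t ht
    exact ⟨X.S.ok.xG s t0, X.S.ok.xG_mem_group _ _, by rw [ext_xG X.S, X.S.ok.eq_xG hy]⟩
  rw [X.S.ok.diagonalSubgroup_eq] at hd
  obtain ⟨c, rfl⟩ := hd
  rw [phiG_tG] at hdf
  have hdR : Ok.tG D K c ^ E ∈ R := by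
    have hc0 : (fun i => Units.map σ.toMonoidHom (c i)) = c ^ q := funext fun i => Units.ext (by simp [hσ])
    rw [hc0] at hdf
    have h1 : (c ^ q * c⁻¹) ^ E = 1 := hker _ (by
      rw [MonoidHom.mem_ker, map_mul, map_inv, hdf, mul_inv_cancel])
    have hcE : ∀ i, ∃ v : Fˣ, Units.map (algebraMap F K).toMonoidHom v = c i ^ E := fun i => by
      have h2 := congrFun h1 i
      simp only [Pi.pow_apply, Pi.mul_apply, Pi.inv_apply, Pi.one_apply, mul_pow, inv_pow] at h2
      have h3 : σ ((c i ^ E : Kˣ) : K) = ((c i ^ E : Kˣ) : K) := by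
        rw [hσ, ← Units.val_pow_eq_pow_val, ← pow_mul, mul_comm, pow_mul, mul_inv_eq_one.1 h2]
      obtain ⟨v, hv⟩ := hfix _ h3
      have hv0 : v ≠ 0 := fun h => (c i ^ E).ne_zero (by rw [← hv, h, map_zero])
      exact ⟨Units.mk0 v hv0, Units.ext hv⟩
    choose v hv using hcE
    exact ⟨Ok.tG D F v, X.S.borel_le_group (Subgroup.mem_sup_right (X.S.tG_mem_diag v)),
      by rw [ext_tG, ← map_pow]; exact congrArg _ (funext hv)⟩
  have hnorm : ∀ y ∈ R, Ok.tG D K c * y * (Ok.tG D K c)⁻¹ ∈ R := by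
    rintro _ ⟨y, hy, rfl⟩
    have hle : D.group F ≤ (R.comap (MulAut.conj (Ok.tG D K c)).toMonoidHom).comap (ext D F K) := by
      refine (Subgroup.closure_le _).2 ?_
      rintro z ⟨s, t, hz⟩
      have hs' : D.x F s.val t = D.xMat F s t := dif_pos s.isLt
      rw [X.S.ok.eq_xG (show (z : Matrix D.Idx D.Idx F) = D.x F s.val t from hz.trans hs'.symm)]
      show Ok.tG D K c * ext D F K (X.S.ok.xG s.val t) * (Ok.tG D K c)⁻¹ ∈ R
      rw [ext_xG X.S, X.S.tG_conj_xG s.isLt]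
      have h5 : chi D c s.val ^ q = chi D c s.val := by
        have h6 : phiG σ D (Ok.tG D K c) = Ok.tG D K c := by rw [phiG_tG]; exact hdf
        have h7 := Matrix.ext_iff.2 (congrArg Units.val h6) (Sum.inr s) (Sum.inr s)
        rw [phiG, Matrix.GeneralLinearGroup.map_apply, Ok.tG_val, Matrix.diagonal_apply_eq, Sum.elim_inr, hσ] at h7
        exact Units.ext (by rw [Units.val_pow_eq_pow_val]; exact h7)
      obtain ⟨t0, ht0⟩ := hfix ((chi D c s.val : K) * algebraMap F K t) (by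
        rw [map_mul, hσF t, hσ, ← Units.val_pow_eq_pow_val, h5])
      exact ⟨X.S.ok.xG s.val t0, X.S.ok.xG_mem_group _ _, by rw [ext_xG X.S, ht0]; rfl⟩
    exact hle hy
  have hcn : ∀ n : ℕ, ∀ z ∈ R, Ok.tG D K c ^ n * z * (Ok.tG D K c ^ n)⁻¹ ∈ R := by
    intro n
    induction n with
    | zero => intro z hz; simpa using hz
    | succ n ihn =>
      intro z hz
      rw [pow_succ', show ∀ a b : GL D.Idx K, a * b * z * (a * b)⁻¹ = a * (b * z * b⁻¹) * a⁻¹ from
        fun a b => by group]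
      exact hnorm _ (ihn z hz)
  have hpow : ∀ n : ℕ, (l * Ok.tG D K c) ^ n * (Ok.tG D K c ^ n)⁻¹ ∈ R := by
    intro n
    induction n with
    | zero => simp [one_mem R]
    | succ n ih =>
      have := mul_mem ih (hcn n l hlR)
      rw [pow_succ, pow_succ]
      convert this using 1
      group
  have hxE : (l * Ok.tG D K c) ^ E ∈ R := by
    have := mul_mem (hpow E) hdR
    rwa [inv_mul_cancel_right] at this
  obtain ⟨e, he⟩ := exists_inv_modEq hm.symm
  rw [← pow_one (l * Ok.tG D K c), ← pow_eq_pow_of_modEq he hxm, pow_mul]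
  exact pow_mem hxE _

end Cfsg.Lib.Chev.Springer
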